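/-
Same order type, and sets of elements singled out by their order.
Main results:
* `exists_equiv`, `card_eq`: equal order-type gives an order-preserving bijection, `|G| = |H|`
* `factorization_card_primesGE`: if the elements whose order has all prime divisors `≥ t` form a subgroup `K`,
  the factorization of `|K|` is that of `|G|` cut off below `t`
* `exists_subgroup_of_supersolvable`: in a supersolvable group they do form a (normal) subgroup
-/
import Cfsg.Agent.EqLemmas

namespace Cfsg.Agent.OrderType

variable {G H : Type*} [Group G] [Finite G] [Group H] [Finite H]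

theorem exists_equiv
    (hT : ∀ m : ℕ, Nat.card {g : G // orderOf g = m} = Nat.card {h : H // orderOf h = m}) :
    ∃ e : G ≃ H, ∀ g, orderOf (e g) = orderOf g :=
  ⟨Equiv.ofFiberEquiv (f := fun g : G => orderOf g) (g := fun h : H => orderOf h)
      (fun m => Classical.choice (Finite.card_eq.mp (hT m))),
    fun _ => Equiv.ofFiberEquiv_map _ _⟩

/-- every prime divisor of `n` is at least `t` -/
def PrimesGE (t n : ℕ) : Prop := ∀ p : ℕ, p.Prime → p ∣ n → t ≤ p

theorem PrimesGE.of_dvd {t m n : ℕ} (h : PrimesGE t n) (hmn : m ∣ n) : PrimesGE t m :=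
  fun p hp hd => h p hp (hd.trans hmn)

theorem PrimesGE.mul {t m n : ℕ} (hm : PrimesGE t m) (hn : PrimesGE t n) : PrimesGE t (m * n) := by
  intro p hp hd
  rcases hp.dvd_mul.mp hd with h | h
  · exact hm p hp h
  · exact hn p hp h

theorem PrimesGE.one {t : ℕ} : PrimesGE t 1 := by
  intro p hp hd
  exact absurd (Nat.dvd_one.mp hd) hp.ne_one

theorem PrimesGE.pow {t p k : ℕ} (hp : p.Prime) (htp : t ≤ p) : PrimesGE t (p ^ k) := by
  intro q hq hd
  rwa [(Nat.prime_dvd_prime_iff_eq hq hp).mp (hq.dvd_of_dvd_pow hd)]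

theorem exists_mem_of_prime_dvd {K : Subgroup G} {p : ℕ} (hp : p.Prime) (h : p ∣ Nat.card K) :
    ∃ g ∈ K, orderOf g = p := by
  haveI := Fact.mk hp
  obtain ⟨x, hx⟩ := exists_prime_orderOf_dvd_card' p h
  exact ⟨x, x.2, by rwa [orderOf_submonoid]⟩

theorem primesGE_card {K : Subgroup G} {t : ℕ} (hK : ∀ g ∈ K, PrimesGE t (orderOf g)) :
    PrimesGE t (Nat.card K) := by
  intro p hp hd
  obtain ⟨g, hg, ho⟩ := exists_mem_of_prime_dvd hp hd
  exact hK g hg p hp (ho ▸ dvd_rfl)

theorem factorization_card_primesGE {K : Subgroup G} {t : ℕ}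
    (hK : ∀ g, g ∈ K ↔ PrimesGE t (orderOf g)) (p : ℕ) :
    (Nat.card K).factorization p = if t ≤ p then (Nat.card G).factorization p else 0 := by
  by_cases hp : p.Prime
  swap
  · rw [Nat.factorization_eq_zero_of_not_prime _ hp, Nat.factorization_eq_zero_of_not_prime _ hp, ite_self]
  split_ifs with htp
  · haveI := Fact.mk hp
    obtain ⟨P⟩ := (inferInstance : Nonempty (Sylow p G))
    have hle : (P : Subgroup G) ≤ K := by
      intro x hx
      obtain ⟨k, hk⟩ := P.isPGroup' ⟨x, hx⟩
      refine (hK x).mpr ((PrimesGE.pow hp htp).of_dvd (n := p ^ k) ?_)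
      exact orderOf_dvd_of_pow_eq_one (by simpa using congrArg Subtype.val hk)
    refine le_antisymm ?_ ?_
    · exact (Nat.factorization_le_iff_dvd Nat.card_pos.ne' Nat.card_pos.ne').mpr (Subgroup.card_subgroup_dvd_card K) p
    · refine (hp.pow_dvd_iff_le_factorization Nat.card_pos.ne').mp ?_
      rw [← Sylow.card_eq_multiplicity P]
      exact Subgroup.card_dvd_of_le hle
  · refine Nat.factorization_eq_zero_of_not_dvd (fun hd => htp ?_)
    exact primesGE_card (fun g hg => (hK g).mp hg) p hp hd

theorem isSupersolvable_quotient {A : Type*} [Group A] (N : Subgroup A) [N.Normal]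
    (h : Cfsg.IsSupersolvable A) : Cfsg.IsSupersolvable (A ⧸ N) := by
  obtain ⟨n, S, h0, hl, hn, hs⟩ := h
  refine ⟨n, fun i => (S i).map (QuotientGroup.mk' N), by simp [h0], ?_, fun i => ?_, fun i => ?_⟩
  · simp only [hl]
    exact Subgroup.map_top_of_surjective _ (QuotientGroup.mk'_surjective N)
  · exact (hn i).map _ (QuotientGroup.mk'_surjective N)
  · obtain ⟨g, hg⟩ := hs i
    exact ⟨QuotientGroup.mk' N g, by simp only [hg, Subgroup.map_sup, MonoidHom.map_zpowers]⟩

theorem exists_normal_prime_card_of_supersolvable (hA : Cfsg.IsSupersolvable G) [Nontrivial G] :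
    ∃ N : Subgroup G, N.Normal ∧ (Nat.card N).Prime := by
  obtain ⟨n, S, h0, hl, hn, hs⟩ := hA
  have key : ∀ j : Fin (n + 1), S j = ⊥ ∨ ∃ N : Subgroup G, N.Normal ∧ (Nat.card N).Prime := by
    refine Fin.induction (Or.inl h0) (fun i hi => ?_)
    rcases hi with hi | hi
    swap
    · exact Or.inr hi
    obtain ⟨g, hg⟩ := hs i
    rw [hi, bot_sup_eq] at hg
    rcases eq_or_ne g 1 with rfl | hg1
    · left
      rw [hg, Subgroup.zpowers_one_eq_bot]
    · right
      obtain ⟨r, hr, hd⟩ := Nat.exists_prime_and_dvd (n := orderOf g) (fun h => hg1 (orderOf_eq_one_iff.mp h))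
      refine ⟨Subgroup.zpowers (g ^ (orderOf g / r)), ⟨fun x hx a => ?_⟩, ?_⟩
      · obtain ⟨k, rfl⟩ := Subgroup.mem_zpowers_iff.mp hx
        have hga : a * g * a⁻¹ ∈ Subgroup.zpowers g := by
          rw [← hg]
          exact (hn i.succ).conj_mem g (hg ▸ Subgroup.mem_zpowers g) a
        obtain ⟨l, hl⟩ := Subgroup.mem_zpowers_iff.mp hga
        rw [← conj_zpow, ← conj_pow, ← hl]
        refine Subgroup.zpow_mem _ ?_ k
        rw [← zpow_natCast (g ^ l), zpow_comm, zpow_natCast]
        exact Subgroup.zpow_mem _ (Subgroup.mem_zpowers _) l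
      · rwa [Nat.card_zpowers, orderOf_pow_orderOf_div (orderOf_pos g).ne' hd]
  refine (key (Fin.last n)).resolve_left (fun h => ?_)
  rw [hl] at h
  exact top_ne_bot h

/-- In a supersolvable group the elements whose order has only prime divisors `≥ t` form a normal subgroup. -/
theorem exists_subgroup_of_supersolvable (hA : Cfsg.IsSupersolvable G) (t : ℕ) :
    ∃ K : Subgroup G, ∀ g, g ∈ K ↔ PrimesGE t (orderOf g) := by
  induction hc : Nat.card G using Nat.strong_induction_on generalizing G with
  | _ c IH =>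
  rcases subsingleton_or_nontrivial G with hs | hs
  · refine ⟨⊤, fun g => ⟨fun _ => ?_, fun _ => Subgroup.mem_top g⟩⟩
    rw [Subsingleton.elim g 1, orderOf_one]
    exact PrimesGE.one
  obtain ⟨N, hN, hr⟩ := exists_normal_prime_card_of_supersolvable hA
  haveI := hN
  have hcard : Nat.card G = Nat.card (G ⧸ N) * Nat.card N := Subgroup.card_eq_card_quotient_mul_card_subgroup N
  obtain ⟨L, hL⟩ := IH (Nat.card (G ⧸ N)) (by
      rw [← hc, hcard]; exact lt_mul_of_one_lt_right Nat.card_pos hr.one_lt)
    (isSupersolvable_quotient N hA) rfl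
  have hq : ∀ g : G, orderOf (QuotientGroup.mk' N g) ∣ orderOf g := orderOf_map_dvd _
  have hq' : ∀ g : G, orderOf g ∣ Nat.card N * orderOf (QuotientGroup.mk' N g) := by
    intro g
    refine orderOf_dvd_of_pow_eq_one ?_
    rw [mul_comm, pow_mul]
    have : g ^ orderOf (QuotientGroup.mk' N g) ∈ N := by
      rw [← QuotientGroup.eq_one_iff]
      exact pow_orderOf_eq_one (QuotientGroup.mk' N g)
    exact congrArg Subtype.val (pow_card_eq_one' (x := (⟨_, this⟩ : N)))
  set M := L.comap (QuotientGroup.mk' N) with hMdef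
  by_cases htr : t ≤ Nat.card N
  · refine ⟨M, fun g => ?_⟩
    rw [hMdef, Subgroup.mem_comap, hL]
    refine ⟨fun h => ?_, fun h => h.of_dvd (hq g)⟩
    exact (PrimesGE.mul (by simpa using PrimesGE.pow (k := 1) hr htr) h).of_dvd (hq' g)
  · have hNM : N ≤ M := by
      intro x hx
      rw [hMdef, Subgroup.mem_comap, show QuotientGroup.mk' N x = 1 from (QuotientGroup.eq_one_iff x).mpr hx]
      exact L.one_mem
    have hLge : PrimesGE t (Nat.card L) := primesGE_card (fun g hg => (hL g).mp hg)
    have hMc : Nat.card M = Nat.card L * Nat.card N := by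
      have h : M.index = L.index := L.index_comap_of_surjective (QuotientGroup.mk'_surjective N)
      have hm := M.card_mul_index
      rw [h, hcard, ← L.card_mul_index, mul_right_comm] at hm
      exact Nat.eq_of_mul_eq_mul_right (Nat.pos_of_ne_zero Subgroup.index_ne_zero_of_finite) hm
    have hco : (Nat.card N).Coprime (Nat.card L) :=
      (hr.coprime_iff_not_dvd).mpr (fun hd => htr (hLge _ hr hd))
    set N' := N.subgroupOf M with hN'
    have hN'c : Nat.card N' = Nat.card N := Nat.card_congr (Subgroup.subgroupOfEquivOfLe hNM).toEquiv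
    have hN'i : N'.index = Nat.card L := by
      have := N'.card_mul_index
      rw [hN'c, hMc, mul_comm] at this
      exact Nat.eq_of_mul_eq_mul_right hr.pos this
    haveI : N'.Normal := Subgroup.normal_subgroupOf
    obtain ⟨K', hK'⟩ := Subgroup.exists_right_complement'_of_coprime (N := N') (by rwa [hN'c, hN'i])
    have hK'c : Nat.card K' = Nat.card L := hN'i ▸ hK'.symm.index_eq_card.symm
    have hcomm : ∀ k ∈ K', ∀ n ∈ N', k * n = n * k := by
      intro k hk n hn
      haveI : IsCyclic N' := by
        haveI := Fact.mk hr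
        exact isCyclic_of_prime_card hN'c
      have h1 : orderOf (MulAut.conjNormal (H := N') k) ∣ Nat.card L :=
        ((orderOf_map_dvd (MulAut.conjNormal (H := N')) k).trans (Subgroup.orderOf_dvd_natCard K' hk)).trans (hK'c ▸ dvd_rfl)
      have h2 : orderOf (MulAut.conjNormal (H := N') k) ∣ Nat.card N - 1 := by
        refine (orderOf_dvd_natCard _).trans ?_
        rw [IsCyclic.card_mulAut, hN'c, Nat.totient_prime hr]
      have h3 : orderOf (MulAut.conjNormal (H := N') k) = 1 := by
        by_contra hne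
        obtain ⟨s, hs', hsd⟩ := Nat.exists_prime_and_dvd hne
        have hle := hLge s hs' (hsd.trans h1)
        have := Nat.le_of_dvd (by have := hr.two_le; omega) (hsd.trans h2)
        omega
      have h4 := congrArg Subtype.val (DFunLike.congr_fun (orderOf_eq_one_iff.mp h3) ⟨n, hn⟩)
      rw [MulAut.conjNormal_apply, MulAut.one_apply] at h4
      calc k * n = k * n * k⁻¹ * k := by group
        _ = n * k := by rw [h4]
    refine ⟨K'.map M.subtype, fun g => ⟨?_, fun hg => ?_⟩⟩
    · rintro ⟨k, hk, rfl⟩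
      refine hLge.of_dvd ?_
      rw [Subgroup.coe_subtype, orderOf_submonoid, ← hK'c]
      exact Subgroup.orderOf_dvd_natCard K' hk
    · have hgM : g ∈ M := by
        rw [hMdef, Subgroup.mem_comap, hL]
        exact hg.of_dvd (hq g)
      obtain ⟨⟨⟨n, hn⟩, ⟨k, hk⟩⟩, hnk⟩ := hK'.2 ⟨g, hgM⟩
      refine ⟨k, hk, ?_⟩
      have hk' : k ^ Nat.card L = 1 := hK'c ▸ congrArg Subtype.val (pow_card_eq_one' (x := (⟨k, hk⟩ : K')))
      have hn' : n ^ Nat.card N = 1 := hN'c ▸ congrArg Subtype.val (pow_card_eq_one' (x := (⟨n, hn⟩ : N')))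
      have hg' : orderOf g ∣ Nat.card L := by
        have hd : orderOf g ∣ Nat.card N * Nat.card L := by
          rw [mul_comm, ← hMc]
          exact Subgroup.orderOf_dvd_natCard M hgM
        refine (Nat.Coprime.dvd_of_dvd_mul_left ?_ hd)
        exact ((hr.coprime_iff_not_dvd).mpr (fun hd' => htr (hg _ hr hd'))).symm
      have hn1 : n = 1 := by
        have e1 : (n * k) ^ Nat.card L = 1 := by
          simp only at hnk
          rw [hnk]
          ext
          simpa using orderOf_dvd_iff_pow_eq_one.mp hg'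
        rw [(Commute.symm (hcomm k hk n hn)).mul_pow, hk', mul_one] at e1
        exact orderOf_eq_one_iff.mp (Nat.eq_one_of_dvd_coprimes hco (orderOf_dvd_of_pow_eq_one hn') (orderOf_dvd_of_pow_eq_one e1))
      simp only [hn1, one_mul] at hnk
      simp [hnk]

end Cfsg.Agent.OrderType
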