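import Cfsg.Agent.EqLemmas

/-!
Counting solutions of `g ^ n = 1` (helper78, for S4376).

* `Ext h`: split extension of an additive abelian group by a group, given by an action function
* `cnt`, `cnt_prod`, `cnt_pi`, `cnt_gcd`, `cnt_eq_countP`
* solvability of extensions and powers
-/

set_option autoImplicit false

namespace Cfsg.Agent.OrderType

/-- `act` is an action of the group `B` on `A` by additive automorphisms. -/
structure IsAct {A B : Type*} [Add A] [Monoid B] (act : B → A → A) : Prop where
  map_add : ∀ b v w, act b (v + w) = act b v + act b w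
  map_mul : ∀ b c v, act (b * c) v = act b (act c v)
  map_one : ∀ v, act 1 v = v

/-- The split extension defined by an action. -/
@[ext]
structure Ext {A B : Type*} [Add A] [Monoid B] {act : B → A → A} (h : IsAct act) where
  left : A
  right : B

variable {A B : Type*} [AddCommGroup A] [Group B] {act : B → A → A} {h : IsAct act}

instance [DecidableEq A] [DecidableEq B] : DecidableEq (Ext h) := fun x y =>
  decidable_of_iff (x.left = y.left ∧ x.right = y.right) Ext.ext_iff.symm

theorem IsAct.map_zero (h : IsAct act) (b : B) : act b 0 = 0 :=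
  add_left_cancel (a := act b 0) (by rw [add_zero, ← h.map_add, add_zero])

instance : Mul (Ext h) := ⟨fun x y => ⟨x.left + act x.right y.left, x.right * y.right⟩⟩
instance : One (Ext h) := ⟨⟨0, 1⟩⟩
instance : Inv (Ext h) := ⟨fun x => ⟨act x.right⁻¹ (-x.left), x.right⁻¹⟩⟩

theorem Ext.mul_def (x y : Ext h) :
    x * y = ⟨x.left + act x.right y.left, x.right * y.right⟩ := rfl

theorem Ext.one_def : (1 : Ext h) = ⟨0, 1⟩ := rfl

theorem Ext.inv_def (x : Ext h) : x⁻¹ = ⟨act x.right⁻¹ (-x.left), x.right⁻¹⟩ := rfl

instance : Group (Ext h) :=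
  Group.ofLeftAxioms
    (fun a b c => by
      simp only [Ext.mul_def, h.map_add, h.map_mul, add_assoc, mul_assoc])
    (fun a => by simp [Ext.mul_def, Ext.one_def, h.map_one])
    (fun a => by
      simp only [Ext.mul_def, Ext.inv_def, Ext.one_def, inv_mul_cancel]
      rw [← h.map_add, neg_add_cancel, h.map_zero])

/-- `Ext h` as a product. -/
def Ext.equiv : A × B ≃ Ext h where
  toFun p := ⟨p.1, p.2⟩
  invFun x := (x.left, x.right)
  left_inv _ := rfl
  right_inv _ := rfl

instance [Fintype A] [Fintype B] : Fintype (Ext h) := Fintype.ofEquiv _ Ext.equiv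

theorem Ext.isSolvable [Group.IsSolvable B] : Group.IsSolvable (Ext h) := by
  let inl : Multiplicative A →* Ext h :=
    { toFun := fun a => ⟨Multiplicative.toAdd a, 1⟩
      map_one' := rfl
      map_mul' := fun a b => by simp [Ext.mul_def, h.map_one] }
  let pr : Ext h →* B :=
    { toFun := fun x => x.right
      map_one' := rfl
      map_mul' := fun _ _ => rfl }
  refine Group.isSolvable_of_ker_le_range inl pr fun x hx => ⟨Multiplicative.ofAdd x.left, ?_⟩
  rw [MonoidHom.mem_ker] at hx
  exact Ext.ext rfl hx.symm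

/-- Number of solutions of `g ^ n = 1`. -/
noncomputable def cnt (G : Type*) [Monoid G] (n : ℕ) : ℕ := Nat.card {g : G // g ^ n = 1}

theorem cnt_gcd {G : Type*} [Monoid G] {e : ℕ} (he : ∀ g : G, g ^ e = 1) (n : ℕ) :
    cnt G n = cnt G (Nat.gcd n e) :=
  Nat.card_congr (Equiv.subtypeEquivRight fun g =>
    ⟨fun hg => pow_gcd_eq_one.2 ⟨hg, he g⟩, fun hg => by
      obtain ⟨c, hc⟩ := Nat.gcd_dvd_left n e
      rw [hc, pow_mul, hg, one_pow]⟩)

theorem cnt_prod (G H : Type*) [Monoid G] [Monoid H] (n : ℕ) :
    cnt (G × H) n = cnt G n * cnt H n := by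
  rw [cnt, cnt, cnt, ← Nat.card_prod]
  refine Nat.card_congr ((Equiv.subtypeEquivRight fun p => ?_).trans (Equiv.subtypeProdEquivProd (p := fun g : G => g ^ n = 1) (q := fun x : H => x ^ n = 1)))
  simp [Prod.ext_iff]

theorem cnt_pi (G : Type*) [Monoid G] (c n : ℕ) : cnt (Fin c → G) n = cnt G n ^ c := by
  rw [cnt, cnt]
  refine Eq.trans (Nat.card_congr ((Equiv.subtypeEquivRight fun f => ?_).trans
    (Equiv.subtypePiEquivPi (p := fun (_ : Fin c) (g : G) => g ^ n = 1)))) ?_
  · simp [funext_iff]
  · simp [Nat.card_pi]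

/-- Powers by repeated squaring (for kernel computation). -/
def pw {G : Type*} [Monoid G] : ℕ → ℕ → G → G
  | 0, _, _ => 1
  | fuel + 1, n, g =>
    if n = 0 then 1 else if n % 2 = 0 then pw fuel (n / 2) (g * g) else g * pw fuel (n / 2) (g * g)

theorem pw_eq {G : Type*} [Monoid G] : ∀ (fuel n : ℕ) (g : G), n < 2 ^ fuel → pw fuel n g = g ^ n
  | 0, n, g, h => by
    have : n = 0 := by simpa using h
    simp [pw, this]
  | fuel + 1, n, g, h => by
    unfold pw
    have ih := pw_eq fuel (n / 2) (g * g) (by rw [pow_succ] at h; omega)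
    have hn := Nat.div_add_mod n 2
    split_ifs with h0 h2
    · simp [h0]
    · rw [ih, ← sq, ← pow_mul]; congr 1; omega
    · rw [ih, ← sq, ← pow_mul, ← pow_succ']; congr 1; omega

theorem cnt_eq_filter (G : Type*) [Monoid G] [Fintype G] [DecidableEq G] {n : ℕ} (hn : n < 2 ^ 7) :
    cnt G n = (Finset.univ.filter fun g : G => pw 7 n g = 1).card := by
  rw [cnt, Nat.card_eq_fintype_card, Fintype.card_subtype]
  simp only [pw_eq 7 n _ hn]

/-- The divisors of `84`. -/
def divs84 : List ℕ := [1, 2, 3, 4, 6, 7, 12, 14, 21, 28, 42, 84]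

theorem tbl_of_filter (G : Type*) [Monoid G] [Fintype G] [DecidableEq G] {L : List ℕ}
    (h : divs84.map (fun n => (Finset.univ.filter fun g : G => pw 7 n g = 1).card) = L) :
    divs84.map (cnt G) = L := by
  rw [← h]
  refine List.map_congr_left fun n hn => cnt_eq_filter G ?_
  simp only [divs84, List.mem_cons, List.not_mem_nil, or_false] at hn
  rcases hn with rfl | rfl | rfl | rfl | rfl | rfl | rfl | rfl | rfl | rfl | rfl | rfl <;> norm_num

theorem isSolvable_pi (G : Type*) [Group G] [Group.IsSolvable G] :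
    ∀ c : ℕ, Group.IsSolvable (Fin c → G)
  | 0 => inferInstance
  | c + 1 => by
    haveI := isSolvable_pi G c
    let e : (Fin (c + 1) → G) →* G × (Fin c → G) :=
      { toFun := fun f => (f 0, fun i => f i.succ)
        map_one' := rfl
        map_mul' := fun _ _ => rfl }
    refine Group.isSolvable_of_isSolvable_injective (f := e) fun f g hfg => funext fun i => ?_
    refine Fin.cases ?_ ?_ i
    · exact congrArg Prod.fst hfg
    · exact fun j => congrFun (congrArg Prod.snd hfg) j

end Cfsg.Agent.OrderType
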