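/-
Frobenius groups and groups with the same order type.

Main results (namespace `Cfsg.Agent.OrderType`):
* `pElements_le`: if the `p`-elements are no more than a Sylow subgroup, they are the `p`-core
* `split_frobenius`: from the order data `n`, `h` of a Frobenius group, a Frobenius decomposition
* `card_orderOf_eq_mul`: counting elements of a given order dividing `|H|`
-/
import Cfsg.Agent.Lib.OrderType.Basic
import Cfsg.Agent.Lib.FPF.Kernel
import Cfsg.Agent.Lib.Frobenius.Complement
import Cfsg.Agent.Lib.Cores.Fitting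
import Cfsg.Agent.Lib.Cores.Subnormal
import Cfsg.Agent.S0577

set_option autoImplicit false
set_option linter.style.haveILetI false

namespace Cfsg.Agent.OrderType

open Subgroup

variable {G : Type*} [Group G] [Finite G]

omit [Finite G] in
theorem orderOf_dvd_card_of_mem {H : Subgroup G} {x : G} (h : x ∈ H) : orderOf x ∣ Nat.card H :=
  H.orderOf_dvd_natCard h

/-- If the `p`-elements are no more numerous than the elements of a Sylow subgroup, they form it. -/
theorem pElements_le {p : ℕ} [Fact p.Prime]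
    (h : Nat.card {g : G // ∃ k, orderOf g = p ^ k} ≤ p ^ (Nat.card G).factorization p) :
    Nat.card (Cfsg.pCore p G) = p ^ (Nat.card G).factorization p := by
  obtain ⟨P⟩ := (inferInstance : Nonempty (Sylow p G))
  have hP : ∀ x ∈ (P : Subgroup G), ∃ k, orderOf x = p ^ k := fun x hx => by
    obtain ⟨k, hk⟩ := IsPGroup.iff_orderOf.mp P.2 ⟨x, hx⟩
    exact ⟨k, by rwa [Subgroup.orderOf_mk] at hk⟩
  let f : ↥(P : Subgroup G) → {g : G // ∃ k, orderOf g = p ^ k} := fun x => ⟨x, hP x x.2⟩
  have hf : Function.Bijective f := by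
    have hinj : Function.Injective f := fun a b e => Subtype.ext (congrArg (fun u => u.val) e)
    refine (Nat.bijective_iff_injective_and_card f).mpr ⟨hinj,
      le_antisymm (Nat.card_le_card_of_injective f hinj) ?_⟩
    rw [P.card_eq_multiplicity]; exact h
  have hPn : (P : Subgroup G).Normal := ⟨fun x hx g => by
    obtain ⟨k, hk⟩ := hP x hx
    obtain ⟨y, hy⟩ := hf.2 ⟨g * x * g⁻¹, k, by rw [← MulAut.conj_apply, MulEquiv.orderOf_eq, hk]⟩
    have hy' : (y : G) = g * x * g⁻¹ := congrArg Subtype.val hy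
    rw [← hy']
    exact y.2⟩
  rw [← P.card_eq_multiplicity]
  have he : Cfsg.pCore p G = (P : Subgroup G) := by
    refine le_antisymm ?_ (Cores.le_pCore hPn P.2)
    have h1 : IsPGroup p ((P : Subgroup G) ⊔ Cfsg.pCore p G : Subgroup G) :=
      P.2.to_sup_of_normal_right (Cores.isPGroup_pCore p G)
    exact le_sup_right.trans (P.3 h1 le_sup_left).le
  rw [he]

/-- Decomposition forced by the order data of a Frobenius group with kernel order `n` and complement
order `h`. -/
theorem split_frobenius {n h : ℕ} (hn : 1 < n) (hh : 1 < h) (hco : n.Coprime h)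
    (hcard : Nat.card G = n * h) (hord : ∀ x : G, orderOf x ∣ n ∨ orderOf x ∣ h)
    (hp : ∀ p : ℕ, p.Prime → p ∣ n →
      Nat.card {g : G // ∃ k, orderOf g = p ^ k} ≤ p ^ n.factorization p) :
    ∃ K H : Subgroup G, K.Normal ∧ Group.IsNilpotent K ∧ IsComplement' K H ∧ Nat.card K = n ∧
      Nat.card H = h ∧ Frobenius.FPF H K ∧ Cfsg.IsFrobeniusComplement H := by
  have hfac : ∀ p : ℕ, p.Prime → p ∣ n → (Nat.card G).factorization p = n.factorization p := by
    intro p hpp hpn
    rw [hcard, Nat.factorization_mul (by omega) (by omega), Finsupp.add_apply,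
      Nat.factorization_eq_zero_of_not_dvd (n := h) fun hd => ?_, add_zero]
    exact hpp.ne_one (Nat.eq_one_of_dvd_coprimes hco hpn hd)
  set K := Cfsg.fittingSubgroup G with hKdef
  have hmul : ∀ x y : G, Commute x y → x ≠ 1 → y ≠ 1 → orderOf x ∣ n → orderOf y ∣ h → False := by
    intro x y hxy hx hy hxn hyh
    have hc : (orderOf x).Coprime (orderOf y) :=
      (hco.coprime_dvd_left hxn).coprime_dvd_right hyh
    have ho := hxy.orderOf_mul_eq_mul_orderOf_of_coprime hc
    rcases hord (x * y) with h1 | h1 <;> rw [ho] at h1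
    · exact hy (orderOf_eq_one_iff.mp
        (Nat.eq_one_of_dvd_coprimes hco ((dvd_mul_left _ _).trans h1) hyh))
    · exact hx (orderOf_eq_one_iff.mp
        (Nat.eq_one_of_dvd_coprimes hco hxn ((dvd_mul_right _ _).trans h1)))
  have hnK : n ∣ Nat.card K := by
    refine (Nat.dvd_iff_prime_pow_dvd_dvd _ _).mpr fun p k hpp hpk => ?_
    rcases k with _ | k
    · simp
    haveI := Fact.mk hpp
    have hpn : p ∣ n := (dvd_pow_self p k.succ_ne_zero).trans hpk
    have h1 := pElements_le (G := G) (p := p) (by rw [hfac p hpp hpn]; exact hp p hpp hpn)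
    refine ((pow_dvd_pow p ?_).trans h1.symm.dvd).trans
      (Subgroup.card_dvd_of_le (Cores.pCore_le_fittingSubgroup p))
    rw [hfac p hpp hpn]
    exact (hpp.pow_dvd_iff_le_factorization (by omega)).mp hpk
  have hKh : (Nat.card K).Coprime h := by
    refine Nat.coprime_of_dvd fun r hr hrK hrh => ?_
    haveI := Fact.mk hr
    obtain ⟨p, hpp, hpn⟩ := Nat.exists_prime_and_dvd hn.ne'
    haveI := Fact.mk hpp
    obtain ⟨x, hx⟩ := exists_prime_orderOf_dvd_card' (G := K) p (hpn.trans hnK)
    obtain ⟨y, hy⟩ := exists_prime_orderOf_dvd_card' (G := K) r hrK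
    have hne : p ≠ r := fun e => hpp.ne_one (Nat.eq_one_of_dvd_coprimes hco hpn (e ▸ hrh))
    have hxy : Commute x y := S0577.commute_of_coprime_aux K x y (by
      rw [hx, hy]; exact (Nat.coprime_primes hpp hr).mpr hne)
    refine hmul x y (congrArg Subtype.val hxy.eq) ?_ ?_ ?_ ?_
    · exact fun e => hpp.ne_one (by rw [← hx, ← Subgroup.orderOf_coe, e, orderOf_one])
    · exact fun e => hr.ne_one (by rw [← hy, ← Subgroup.orderOf_coe, e, orderOf_one])
    · rwa [Subgroup.orderOf_coe, hx]
    · rwa [Subgroup.orderOf_coe, hy]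
  have hKn : Nat.card K = n :=
    Nat.dvd_antisymm (hKh.dvd_of_dvd_mul_right (hcard ▸ K.card_subgroup_dvd_card)) hnK
  have hKidx : K.index = h := by
    have h1 := K.card_mul_index
    rw [hKn, hcard] at h1
    exact Nat.eq_of_mul_eq_mul_left (by omega) h1
  obtain ⟨H, hc⟩ := Subgroup.exists_right_complement'_of_coprime (N := K)
    (by rw [hKn, hKidx]; exact hco)
  have hH : Nat.card H = h := by rw [← hc.symm.index_eq_card, hKidx]
  have hf : Frobenius.FPF H K := fun a ha ha1 k hk e => by
    by_contra hk1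
    exact hmul k a e.symm hk1 ha1 (hKn ▸ orderOf_dvd_card_of_mem hk)
      (hH ▸ orderOf_dvd_card_of_mem ha)
  refine ⟨K, H, inferInstance, inferInstance, hc, hKn, hH, hf, hf.isFrobeniusComplement hc ?_ ?_⟩
  · intro e; rw [e, Subgroup.card_bot] at hKn; omega
  · intro e; rw [e, Subgroup.card_bot] at hH; omega

/-- The elements of a given order dividing `|H|` are the conjugates of those in `H`. -/
theorem card_orderOf_eq_mul {K H : Subgroup G} [K.Normal] (hc : IsComplement' K H)
    (hf : Frobenius.FPF H K) {m : ℕ} (hm : 1 < m) (hmh : m ∣ Nat.card H)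
    (hco : (Nat.card K).Coprime (Nat.card H)) :
    Nat.card {g : G // orderOf g = m} = Nat.card K * Nat.card {x : H // orderOf x = m} := by
  rw [← Nat.card_prod]
  refine (Nat.card_congr (Equiv.ofBijective (fun u : K × {x : H // orderOf x = m} =>
    (⟨(u.1 : G) * (u.2.1 : G) * (u.1 : G)⁻¹, by
      rw [← MulAut.conj_apply, MulEquiv.orderOf_eq, Subgroup.orderOf_coe, u.2.2]⟩ :
      {g : G // orderOf g = m})) ⟨?_, ?_⟩)).symm
  · rintro ⟨k, x, hx⟩ ⟨l, y, hy⟩ e
    have e' : (k : G) * x * (k : G)⁻¹ = l * y * (l : G)⁻¹ := congrArg Subtype.val e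
    have hu : ((l : G)⁻¹ * k) * x * ((l : G)⁻¹ * k)⁻¹ = y := by
      calc ((l : G)⁻¹ * k) * x * ((l : G)⁻¹ * k)⁻¹ = (l : G)⁻¹ * ((k : G) * x * (k : G)⁻¹) * l := by group
        _ = (l : G)⁻¹ * (l * y * (l : G)⁻¹) * l := by rw [e']
        _ = y := by group
    set u := (l : G)⁻¹ * k with hudef
    have huK : u ∈ K := K.mul_mem (K.inv_mem l.2) k.2
    -- the commutator of `u` and `x` lies in both factors
    have hc1 : u * (x : G) * u⁻¹ * (x : G)⁻¹ ∈ K := by
      have := K.mul_mem huK (‹K.Normal›.conj_mem _ (K.inv_mem huK) (x : G))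
      simpa [mul_assoc] using this
    have hc2 : u * (x : G) * u⁻¹ * (x : G)⁻¹ ∈ H := by
      rw [hu]; exact H.mul_mem y.2 (H.inv_mem x.2)
    have h1 := Subgroup.mem_bot.mp (hc.disjoint.le_bot ⟨hc1, hc2⟩)
    have hxy : (y : G) = x := by rw [hu] at h1; exact mul_inv_eq_one.mp h1
    have hcomm : (x : G) * u = u * x := by
      rw [hxy] at hu; exact (mul_inv_eq_iff_eq_mul.mp hu).symm
    have hu1 := hf x x.2 (fun e1 => by
      rw [← Subgroup.orderOf_coe, e1, orderOf_one] at hx; omega) u huK hcomm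
    rw [hudef, inv_mul_eq_one] at hu1
    exact Prod.ext (Subtype.ext hu1.symm) (Subtype.ext (Subtype.ext hxy.symm))
  · rintro ⟨g, hg⟩
    have hgK : g ∉ K := fun hgK => by
      have := Nat.eq_one_of_dvd_coprimes hco (orderOf_dvd_card_of_mem hgK) (hg ▸ hmh)
      omega
    obtain ⟨k, hk, hkH⟩ := hf.exists_conj_mem hc hgK
    refine ⟨⟨⟨k, hk⟩, ⟨⟨_, hkH⟩, ?_⟩⟩, Subtype.ext ?_⟩
    · rw [← Subgroup.orderOf_coe]
      show orderOf (k⁻¹ * g * k) = m
      rw [show k⁻¹ * g * k = MulAut.conj k⁻¹ g by simp, MulEquiv.orderOf_eq, hg]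
    · show k * (k⁻¹ * g * k) * k⁻¹ = g
      group

end Cfsg.Agent.OrderType

namespace Cfsg.Agent.OrderType

open Subgroup

variable {F G : Type*} [Group F] [Finite F] [Group G] [Finite G]

omit [Finite F] [Finite G] in
theorem card_subtype_orderOf (e : F ≃ G) (he : ∀ x, orderOf (e x) = orderOf x) (P : ℕ → Prop) :
    Nat.card {x : F // P (orderOf x)} = Nat.card {y : G // P (orderOf y)} :=
  Nat.card_congr (e.subtypeEquiv fun x => by rw [he])

/-- A nilpotent group has no more `p`-elements than a Sylow subgroup. -/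
theorem card_pElements_le [Group.IsNilpotent F] (p : ℕ) [Fact p.Prime] :
    Nat.card {x : F // ∃ k, orderOf x = p ^ k} ≤ p ^ (Nat.card F).factorization p := by
  obtain ⟨P⟩ := (inferInstance : Nonempty (Sylow p F))
  have hmem : ∀ x : F, (∃ k, orderOf x = p ^ k) → x ∈ (P : Subgroup F) := fun x ⟨k, hk⟩ => by
    have hxp : IsPGroup p (zpowers x) := IsPGroup.of_card (n := k) (by rw [Nat.card_zpowers, hk])
    haveI := Group.normalizerCondition_of_isNilpotent (G := F)
    haveI := P.normal_of_normalizerCondition Group.normalizerCondition_of_isNilpotent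
    rw [← P.3 (P.2.to_sup_of_normal_left hxp) le_sup_left]
    exact mem_sup_right (mem_zpowers x)
  rw [← P.card_eq_multiplicity]
  exact Nat.card_le_card_of_injective (fun x => (⟨x.1, hmem x.1 x.2⟩ : (P : Subgroup F)))
    fun a b e => Subtype.ext (congrArg (fun u : (P : Subgroup F) => (u : F)) e)

/-- The order data of a Frobenius group. -/
theorem frobenius_data {C : Subgroup F} (hC : Cfsg.IsFrobeniusComplement C) :
    1 < C.index ∧ 1 < Nat.card C ∧ C.index.Coprime (Nat.card C) ∧
      (∀ x : F, orderOf x ∣ C.index ∨ orderOf x ∣ Nat.card C) ∧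
      ∀ p : ℕ, p.Prime → p ∣ C.index →
        Nat.card {x : F // ∃ k, orderOf x = p ^ k} ≤ p ^ C.index.factorization p := by
  set K := Frobenius.frobKernel hC with hKdef
  haveI := Frobenius.frobKernel_normal hC
  haveI := FPF.isNilpotent_frobKernel hC
  have hKc := Frobenius.card_frobKernel hC
  have hh : 1 < Nat.card C := by
    have : Nontrivial C := (Subgroup.nontrivial_iff_ne_bot C).mpr hC.1
    exact Finite.one_lt_card
  have hco : C.index.Coprime (Nat.card C) := by
    have := Frobenius.coprime_card_index hC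
    first | exact this | exact this.symm
  have hout : ∀ x : F, x ∉ K → orderOf x ∣ Nat.card C := fun x hx => by
    obtain ⟨k, -, hk⟩ := (Frobenius.fpf_frobKernel hC).exists_conj_mem
      (Frobenius.frobKernel_isComplement hC) hx
    have h1 := orderOf_dvd_card_of_mem hk
    rwa [show k⁻¹ * x * k = MulAut.conj k⁻¹ x by simp, MulEquiv.orderOf_eq] at h1
  refine ⟨Frobenius.one_lt_index hC, hh, hco, fun x => ?_, fun p hp hpn => ?_⟩
  · by_cases hx : x ∈ K
    · exact Or.inl (hKc ▸ orderOf_dvd_card_of_mem hx)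
    · exact Or.inr (hout x hx)
  · haveI := Fact.mk hp
    refine le_trans ?_ ((card_pElements_le (F := K) p).trans (le_of_eq (by rw [hKc])))
    refine Nat.card_le_card_of_injective (fun x => (⟨⟨x.1, ?_⟩, ?_⟩ : {y : K // ∃ k, orderOf y = p ^ k})) ?_
    · by_contra hx
      obtain ⟨k, hk⟩ := x.2
      rcases k with _ | k
      · rw [pow_zero, orderOf_eq_one_iff] at hk
        exact hx (hk ▸ K.one_mem)
      · exact hp.ne_one (Nat.eq_one_of_dvd_coprimes hco hpn
          ((dvd_pow_self p k.succ_ne_zero).trans (hk ▸ hout _ hx)))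
    · obtain ⟨k, hk⟩ := x.2
      exact ⟨k, by rw [Subgroup.orderOf_mk, hk]⟩
    · intro a b e
      exact Subtype.ext (congrArg (fun u : {y : K // ∃ k, orderOf y = p ^ k} => ((u.1 : K) : F)) e)

end Cfsg.Agent.OrderType
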