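import Cfsg.Agent.Lib.OrderType.Ext

/-!
The group `GL(3,2)` in a form suitable for kernel computation (helper78, for S4376).
-/

set_option autoImplicit false
open scoped commutatorElement

namespace Cfsg.Agent.OrderType

/-- `3 × 3` matrices over `ZMod 2`. -/
@[ext]
structure M32 where
  a00 : ZMod 2
  a01 : ZMod 2
  a02 : ZMod 2
  a10 : ZMod 2
  a11 : ZMod 2
  a12 : ZMod 2
  a20 : ZMod 2
  a21 : ZMod 2
  a22 : ZMod 2

instance : DecidableEq M32 := fun x y =>
  decidable_of_iff (x.a00 = y.a00 ∧ x.a01 = y.a01 ∧ x.a02 = y.a02 ∧ x.a10 = y.a10 ∧ x.a11 = y.a11 ∧ x.a12 = y.a12 ∧ x.a20 = y.a20 ∧ x.a21 = y.a21 ∧ x.a22 = y.a22) M32.ext_iff.symm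

instance : Mul M32 := ⟨fun x y => ⟨x.a00 * y.a00 + x.a01 * y.a10 + x.a02 * y.a20, x.a00 * y.a01 + x.a01 * y.a11 + x.a02 * y.a21, x.a00 * y.a02 + x.a01 * y.a12 + x.a02 * y.a22, x.a10 * y.a00 + x.a11 * y.a10 + x.a12 * y.a20, x.a10 * y.a01 + x.a11 * y.a11 + x.a12 * y.a21, x.a10 * y.a02 + x.a11 * y.a12 + x.a12 * y.a22, x.a20 * y.a00 + x.a21 * y.a10 + x.a22 * y.a20, x.a20 * y.a01 + x.a21 * y.a11 + x.a22 * y.a21, x.a20 * y.a02 + x.a21 * y.a12 + x.a22 * y.a22⟩⟩

instance : One M32 := ⟨⟨1, 0, 0, 0, 1, 0, 0, 0, 1⟩⟩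

theorem M32.mul_def (x y : M32) : x * y = ⟨x.a00 * y.a00 + x.a01 * y.a10 + x.a02 * y.a20, x.a00 * y.a01 + x.a01 * y.a11 + x.a02 * y.a21, x.a00 * y.a02 + x.a01 * y.a12 + x.a02 * y.a22, x.a10 * y.a00 + x.a11 * y.a10 + x.a12 * y.a20, x.a10 * y.a01 + x.a11 * y.a11 + x.a12 * y.a21, x.a10 * y.a02 + x.a11 * y.a12 + x.a12 * y.a22, x.a20 * y.a00 + x.a21 * y.a10 + x.a22 * y.a20, x.a20 * y.a01 + x.a21 * y.a11 + x.a22 * y.a21, x.a20 * y.a02 + x.a21 * y.a12 + x.a22 * y.a22⟩ := rfl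

theorem M32.one_def : (1 : M32) = ⟨1, 0, 0, 0, 1, 0, 0, 0, 1⟩ := rfl

instance : Monoid M32 where
  mul_assoc x y z := by ext <;> simp only [M32.mul_def] <;> ring
  one_mul x := by ext <;> simp [M32.mul_def, M32.one_def]
  mul_one x := by ext <;> simp [M32.mul_def, M32.one_def]

/-- `M32` as a product of nine copies of `ZMod 2`. -/
def M32.equiv : (Fin 9 → ZMod 2) ≃ M32 where
  toFun v := ⟨v 0, v 1, v 2, v 3, v 4, v 5, v 6, v 7, v 8⟩
  invFun x := ![x.a00, x.a01, x.a02, x.a10, x.a11, x.a12, x.a20, x.a21, x.a22]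
  left_inv v := by funext i; fin_cases i <;> rfl
  right_inv x := rfl

instance : Fintype M32 := Fintype.ofEquiv _ M32.equiv

theorem cnt_units {n : ℕ} (hn : n ≠ 0) : cnt M32ˣ n = cnt M32 n := by
  refine Nat.card_congr
    { toFun := fun u => ⟨(u.1 : M32), by rw [← Units.val_pow_eq_pow_val, u.2, Units.val_one]⟩
      invFun := fun x => ⟨Units.ofPowEqOne x.1 n x.2 hn, Units.ext (by simpa using x.2)⟩
      left_inv := fun u => Subtype.ext (Units.ext rfl)
      right_inv := fun x => rfl }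

theorem tbl_units : divs84.map (cnt M32ˣ) = [1, 22, 57, 64, 78, 49, 120, 70, 105, 112, 126, 168] := by
  rw [List.map_congr_left (g := cnt M32) fun n hn => cnt_units ?_]
  · exact tbl_of_filter M32 (by decide +kernel)
  · rintro rfl
    simp [divs84] at hn

/-- The determinant. -/
abbrev det3 (x : M32) : ZMod 2 :=
  x.a00 * (x.a11 * x.a22 - x.a12 * x.a21) - x.a01 * (x.a10 * x.a22 - x.a12 * x.a20) + x.a02 * (x.a10 * x.a21 - x.a11 * x.a20)

theorem det3_of_mul (x y : M32) (h : x * y = 1) : det3 x = 1 := by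
  have h1 : det3 x * det3 y = 1 := by
    have : det3 (x * y) = det3 x * det3 y := by simp only [det3, M32.mul_def]; ring
    rw [← this, h]
    decide
  revert h1
  generalize det3 x = a
  generalize det3 y = b
  revert a b
  decide

theorem card_units : Nat.card M32ˣ = 168 := by
  have h1 : cnt M32ˣ 84 = 168 := congrArg (fun l : List ℕ => l.getD 11 0) tbl_units
  have h2 : Nat.card M32ˣ = Nat.card {x : M32 // ∃ y : M32, x * y = 1 ∧ y * x = 1} :=
    Nat.card_congr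
      { toFun := fun u => ⟨u, ↑u⁻¹, Units.mul_inv u, Units.inv_mul u⟩
        invFun := fun x => ⟨x.1, x.2.choose, x.2.choose_spec.1, x.2.choose_spec.2⟩
        left_inv := fun u => Units.ext rfl
        right_inv := fun x => rfl }
  rw [h2]
  refine le_antisymm ?_ ?_
  · rw [Nat.card_eq_fintype_card, Fintype.card_subtype]
    refine le_trans (Finset.card_le_card (t := Finset.univ.filter fun x : M32 => det3 x = 1) ?_) (by decide +kernel)
    intro x hx
    simp only [Finset.mem_filter, Finset.mem_univ, true_and] at hx ⊢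
    obtain ⟨y, hy, -⟩ := hx
    exact det3_of_mul x y hy
  · rw [← h2, ← h1]
    exact Nat.card_le_card_of_injective _ Subtype.val_injective

theorem not_isSolvable_units : ¬ Group.IsSolvable M32ˣ := by
  let g : M32ˣ := ⟨⟨0, 0, 1, 0, 1, 0, 1, 0, 0⟩, ⟨0, 0, 1, 0, 1, 0, 1, 0, 0⟩, by decide +kernel, by decide +kernel⟩
  let x : M32ˣ := ⟨⟨1, 1, 0, 1, 1, 1, 1, 0, 0⟩, ⟨0, 0, 1, 1, 0, 1, 1, 1, 0⟩, by decide +kernel, by decide +kernel⟩
  let y : M32ˣ := ⟨⟨1, 1, 0, 1, 0, 0, 0, 1, 1⟩, ⟨0, 1, 0, 1, 1, 0, 1, 1, 1⟩, by decide +kernel, by decide +kernel⟩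
  have key : ⁅x * g * x⁻¹, y * g * y⁻¹⁆ = g := by
    rw [commutatorElement_def]
    ext : 1
    simp only [Units.val_mul, mul_inv_rev, inv_inv]
    decide +kernel
  have hne : g ≠ 1 := fun h => absurd (congrArg Units.val h) (by decide +kernel)
  refine _root_.not_isSolvable_of_mem_derivedSeries hne fun n => ?_
  induction n with
  | zero => exact Subgroup.mem_top g
  | succ n ih =>
    rw [derivedSeries_succ, ← key]
    exact Subgroup.commutator_mem_commutator ((derivedSeries_normal _ n).conj_mem g ih x)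
      ((derivedSeries_normal _ n).conj_mem g ih y)

end Cfsg.Agent.OrderType
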