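import Cfsg.Agent.Lib.OrderType.Ext

/-!
Small solvable groups with their solution counts, part 1 (helper78, for S4376; machine generated).
-/

set_option autoImplicit false

namespace Cfsg.Agent.OrderType

namespace P00

-- (1 copies of ZMod 2) by (C1 by C1, twist 1)

abbrev top (b : Multiplicative (ZMod 1)) (v : ZMod 1) : ZMod 1 :=
  [(0 : ZMod 1)].getD b.toAdd.val 0 * v

theorem hTop : IsAct top := ⟨by decide +kernel, by decide +kernel, by decide +kernel⟩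

abbrev T := Ext hTop

abbrev A := ZMod 2

abbrev act (b : T) (v : A) : A :=
  [(1 : ZMod 2)].getD (b.left.val * 1 + b.right.toAdd.val) 0 * v

theorem hAct : IsAct act := ⟨by decide +kernel, by decide +kernel, by decide +kernel⟩

abbrev G := Ext hAct

theorem solvable : Group.IsSolvable G :=
  haveI : Group.IsSolvable T := Ext.isSolvable
  Ext.isSolvable

theorem tbl : divs84.map (cnt G) = [1, 2, 1, 2, 2, 1, 2, 2, 1, 2, 2, 2] :=
  tbl_of_filter G (by decide +kernel)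

end P00

namespace P04

-- (1 copies of ZMod 7) by (C1 by C1, twist 1)

abbrev top (b : Multiplicative (ZMod 1)) (v : ZMod 1) : ZMod 1 :=
  [(0 : ZMod 1)].getD b.toAdd.val 0 * v

theorem hTop : IsAct top := ⟨by decide +kernel, by decide +kernel, by decide +kernel⟩

abbrev T := Ext hTop

abbrev A := ZMod 7

abbrev act (b : T) (v : A) : A :=
  [(1 : ZMod 7)].getD (b.left.val * 1 + b.right.toAdd.val) 0 * v

theorem hAct : IsAct act := ⟨by decide +kernel, by decide +kernel, by decide +kernel⟩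

abbrev G := Ext hAct

theorem solvable : Group.IsSolvable G :=
  haveI : Group.IsSolvable T := Ext.isSolvable
  Ext.isSolvable

theorem tbl : divs84.map (cnt G) = [1, 1, 1, 1, 1, 7, 1, 7, 7, 7, 7, 7] :=
  tbl_of_filter G (by decide +kernel)

end P04

namespace P07

-- (1 copies of ZMod 7) by (C1 by C2, twist 1)

abbrev top (b : Multiplicative (ZMod 2)) (v : ZMod 1) : ZMod 1 :=
  [(0 : ZMod 1), (0 : ZMod 1)].getD b.toAdd.val 0 * v

theorem hTop : IsAct top := ⟨by decide +kernel, by decide +kernel, by decide +kernel⟩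

abbrev T := Ext hTop

abbrev A := ZMod 7

abbrev act (b : T) (v : A) : A :=
  [(1 : ZMod 7), (6 : ZMod 7)].getD (b.left.val * 2 + b.right.toAdd.val) 0 * v

theorem hAct : IsAct act := ⟨by decide +kernel, by decide +kernel, by decide +kernel⟩

abbrev G := Ext hAct

theorem solvable : Group.IsSolvable G :=
  haveI : Group.IsSolvable T := Ext.isSolvable
  Ext.isSolvable

theorem tbl : divs84.map (cnt G) = [1, 8, 1, 8, 8, 7, 8, 14, 7, 14, 14, 14] :=
  tbl_of_filter G (by decide +kernel)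

end P07

namespace P10

-- (2 copies of ZMod 2) by (C3 by C2, twist 2)

abbrev top (b : Multiplicative (ZMod 2)) (v : ZMod 3) : ZMod 3 :=
  [(1 : ZMod 3), (2 : ZMod 3)].getD b.toAdd.val 0 * v

theorem hTop : IsAct top := ⟨by decide +kernel, by decide +kernel, by decide +kernel⟩

abbrev T := Ext hTop

abbrev A := ZMod 2 × ZMod 2

abbrev act (b : T) (v : A) : A :=
  (([(1 : ZMod 2), (0 : ZMod 2), (1 : ZMod 2), (0 : ZMod 2), (1 : ZMod 2), (0 : ZMod 2)].getD (b.left.val * 2 + b.right.toAdd.val) 0) * v.1 + ([(0 : ZMod 2), (1 : ZMod 2), (0 : ZMod 2), (1 : ZMod 2), (0 : ZMod 2), (1 : ZMod 2)].getD (b.left.val * 2 + b.right.toAdd.val) 0) * v.2,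
    ([(0 : ZMod 2), (1 : ZMod 2), (0 : ZMod 2), (1 : ZMod 2), (0 : ZMod 2), (1 : ZMod 2)].getD (b.left.val * 2 + b.right.toAdd.val) 0) * v.1 + ([(1 : ZMod 2), (0 : ZMod 2), (1 : ZMod 2), (0 : ZMod 2), (1 : ZMod 2), (0 : ZMod 2)].getD (b.left.val * 2 + b.right.toAdd.val) 0) * v.2)

theorem hAct : IsAct act := ⟨by decide +kernel, by decide +kernel, by decide +kernel⟩

abbrev G := Ext hAct

theorem solvable : Group.IsSolvable G :=
  haveI : Group.IsSolvable T := Ext.isSolvable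
  Ext.isSolvable

theorem tbl : divs84.map (cnt G) = [1, 10, 3, 16, 18, 1, 24, 10, 3, 16, 18, 24] :=
  tbl_of_filter G (by decide +kernel)

end P10

namespace P11

-- (1 copies of ZMod 7) by (C1 by C4, twist 1)

abbrev top (b : Multiplicative (ZMod 4)) (v : ZMod 1) : ZMod 1 :=
  [(0 : ZMod 1), (0 : ZMod 1), (0 : ZMod 1), (0 : ZMod 1)].getD b.toAdd.val 0 * v

theorem hTop : IsAct top := ⟨by decide +kernel, by decide +kernel, by decide +kernel⟩

abbrev T := Ext hTop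

abbrev A := ZMod 7

abbrev act (b : T) (v : A) : A :=
  [(1 : ZMod 7), (6 : ZMod 7), (1 : ZMod 7), (6 : ZMod 7)].getD (b.left.val * 4 + b.right.toAdd.val) 0 * v

theorem hAct : IsAct act := ⟨by decide +kernel, by decide +kernel, by decide +kernel⟩

abbrev G := Ext hAct

theorem solvable : Group.IsSolvable G :=
  haveI : Group.IsSolvable T := Ext.isSolvable
  Ext.isSolvable

theorem tbl : divs84.map (cnt G) = [1, 2, 1, 16, 2, 7, 16, 14, 7, 28, 14, 28] :=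
  tbl_of_filter G (by decide +kernel)

end P11

namespace P15

-- (1 copies of ZMod 4) by (C7 by C2, twist 6)

abbrev top (b : Multiplicative (ZMod 2)) (v : ZMod 7) : ZMod 7 :=
  [(1 : ZMod 7), (6 : ZMod 7)].getD b.toAdd.val 0 * v

theorem hTop : IsAct top := ⟨by decide +kernel, by decide +kernel, by decide +kernel⟩

abbrev T := Ext hTop

abbrev A := ZMod 4

abbrev act (b : T) (v : A) : A :=
  [(1 : ZMod 4), (3 : ZMod 4), (1 : ZMod 4), (3 : ZMod 4), (1 : ZMod 4), (3 : ZMod 4), (1 : ZMod 4), (3 : ZMod 4), (1 : ZMod 4), (3 : ZMod 4), (1 : ZMod 4), (3 : ZMod 4), (1 : ZMod 4), (3 : ZMod 4)].getD (b.left.val * 2 + b.right.toAdd.val) 0 * v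

theorem hAct : IsAct act := ⟨by decide +kernel, by decide +kernel, by decide +kernel⟩

abbrev G := Ext hAct

theorem solvable : Group.IsSolvable G :=
  haveI : Group.IsSolvable T := Ext.isSolvable
  Ext.isSolvable

theorem tbl : divs84.map (cnt G) = [1, 30, 1, 32, 30, 7, 32, 42, 7, 56, 42, 56] :=
  tbl_of_filter G (by decide +kernel)

end P15

namespace P18

-- (1 copies of ZMod 7) by (C7 by C2, twist 6)

abbrev top (b : Multiplicative (ZMod 2)) (v : ZMod 7) : ZMod 7 :=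
  [(1 : ZMod 7), (6 : ZMod 7)].getD b.toAdd.val 0 * v

theorem hTop : IsAct top := ⟨by decide +kernel, by decide +kernel, by decide +kernel⟩

abbrev T := Ext hTop

abbrev A := ZMod 7

abbrev act (b : T) (v : A) : A :=
  [(1 : ZMod 7), (6 : ZMod 7), (1 : ZMod 7), (6 : ZMod 7), (1 : ZMod 7), (6 : ZMod 7), (1 : ZMod 7), (6 : ZMod 7), (1 : ZMod 7), (6 : ZMod 7), (1 : ZMod 7), (6 : ZMod 7), (1 : ZMod 7), (6 : ZMod 7)].getD (b.left.val * 2 + b.right.toAdd.val) 0 * v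

theorem hAct : IsAct act := ⟨by decide +kernel, by decide +kernel, by decide +kernel⟩

abbrev G := Ext hAct

theorem solvable : Group.IsSolvable G :=
  haveI : Group.IsSolvable T := Ext.isSolvable
  Ext.isSolvable

theorem tbl : divs84.map (cnt G) = [1, 50, 1, 50, 50, 49, 50, 98, 49, 98, 98, 98] :=
  tbl_of_filter G (by decide +kernel)

end P18

namespace P19

-- (1 copies of ZMod 3) by (C21 by C2, twist 20)

abbrev top (b : Multiplicative (ZMod 2)) (v : ZMod 21) : ZMod 21 :=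
  [(1 : ZMod 21), (20 : ZMod 21)].getD b.toAdd.val 0 * v

theorem hTop : IsAct top := ⟨by decide +kernel, by decide +kernel, by decide +kernel⟩

abbrev T := Ext hTop

abbrev A := ZMod 3

abbrev act (b : T) (v : A) : A :=
  [(1 : ZMod 3), (2 : ZMod 3), (1 : ZMod 3), (2 : ZMod 3), (1 : ZMod 3), (2 : ZMod 3), (1 : ZMod 3), (2 : ZMod 3), (1 : ZMod 3), (2 : ZMod 3), (1 : ZMod 3), (2 : ZMod 3), (1 : ZMod 3), (2 : ZMod 3), (1 : ZMod 3), (2 : ZMod 3), (1 : ZMod 3), (2 : ZMod 3), (1 : ZMod 3), (2 : ZMod 3), (1 : ZMod 3), (2 : ZMod 3), (1 : ZMod 3), (2 : ZMod 3), (1 : ZMod 3), (2 : ZMod 3), (1 : ZMod 3), (2 : ZMod 3), (1 : ZMod 3), (2 : ZMod 3), (1 : ZMod 3), (2 : ZMod 3), (1 : ZMod 3), (2 : ZMod 3), (1 : ZMod 3), (2 : ZMod 3), (1 : ZMod 3), (2 : ZMod 3), (1 : ZMod 3), (2 : ZMod 3), (1 : ZMod 3), (2 : ZMod 3)].getD (b.left.val * 2 + b.right.toAdd.val) 0 * v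

theorem hAct : IsAct act := ⟨by decide +kernel, by decide +kernel, by decide +kernel⟩

abbrev G := Ext hAct

theorem solvable : Group.IsSolvable G :=
  haveI : Group.IsSolvable T := Ext.isSolvable
  Ext.isSolvable

theorem tbl : divs84.map (cnt G) = [1, 64, 9, 64, 72, 7, 72, 70, 63, 70, 126, 126] :=
  tbl_of_filter G (by decide +kernel)

end P19

namespace P26

-- (2 copies of ZMod 3) by (C28 by C2, twist 13)

abbrev top (b : Multiplicative (ZMod 2)) (v : ZMod 28) : ZMod 28 :=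
  [(1 : ZMod 28), (13 : ZMod 28)].getD b.toAdd.val 0 * v

theorem hTop : IsAct top := ⟨by decide +kernel, by decide +kernel, by decide +kernel⟩

abbrev T := Ext hTop

abbrev A := ZMod 3 × ZMod 3

abbrev act (b : T) (v : A) : A :=
  (([(1 : ZMod 3), (1 : ZMod 3), (2 : ZMod 3), (2 : ZMod 3), (1 : ZMod 3), (1 : ZMod 3), (2 : ZMod 3), (2 : ZMod 3), (1 : ZMod 3), (1 : ZMod 3), (2 : ZMod 3), (2 : ZMod 3), (1 : ZMod 3), (1 : ZMod 3), (2 : ZMod 3), (2 : ZMod 3), (1 : ZMod 3), (1 : ZMod 3), (2 : ZMod 3), (2 : ZMod 3), (1 : ZMod 3), (1 : ZMod 3), (2 : ZMod 3), (2 : ZMod 3), (1 : ZMod 3), (1 : ZMod 3), (2 : ZMod 3), (2 : ZMod 3), (1 : ZMod 3), (1 : ZMod 3), (2 : ZMod 3), (2 : ZMod 3), (1 : ZMod 3), (1 : ZMod 3), (2 : ZMod 3), (2 : ZMod 3), (1 : ZMod 3), (1 : ZMod 3), (2 : ZMod 3), (2 : ZMod 3), (1 : ZMod 3), (1 : ZMod 3), (2 : ZMod 3), (2 : ZMod 3), (1 : ZMod 3), (1 : ZMod 3), (2 : ZMod 3), (2 : ZMod 3), (1 : ZMod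 3), (1 : ZMod 3), (2 : ZMod 3), (2 : ZMod 3), (1 : ZMod 3), (1 : ZMod 3), (2 : ZMod 3), (2 : ZMod 3)].getD (b.left.val * 2 + b.right.toAdd.val) 0) * v.1 + ([(0 : ZMod 3), (1 : ZMod 3), (0 : ZMod 3), (2 : ZMod 3), (0 : ZMod 3), (1 : ZMod 3), (0 : ZMod 3), (2 : ZMod 3), (0 : ZMod 3), (1 : ZMod 3), (0 : ZMod 3), (2 : ZMod 3), (0 : ZMod 3), (1 : ZMod 3), (0 : ZMod 3), (2 : ZMod 3), (0 : ZMod 3), (1 : ZMod 3), (0 : ZMod 3), (2 : ZMod 3), (0 : ZMod 3), (1 : ZMod 3), (0 : ZMod 3), (2 : ZMod 3), (0 : ZMod 3), (1 : ZMod 3), (0 : ZMod 3), (2 : ZMod 3), (0 : ZMod 3), (1 : ZMod 3), (0 : ZMod 3), (2 : ZMod 3), (0 : ZMod 3), (1 : ZMod 3), (0 : ZMod 3), (2 : ZMod 3), (0 : ZMod 3), (1 : ZMod 3), (0 : ZMod 3), (2 : ZMod 3), (0 : ZMod 3), (1 : ZMod 3), (0 : ZMod 3), (2 : ZMod 3), (0 : ZMod 3), (1 : ZMod 3), (0 : ZMod 3), (2 : ZMod 3), (0 : ZMod 3), (1 : ZMod 3), (0 : ZMod 3), (2 : ZMod 3), (0 : ZMod 3), (1 : ZMod 3), (0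 : ZMod 3), (2 : ZMod 3)].getD (b.left.val * 2 + b.right.toAdd.val) 0) * v.2,
    ([(1 : ZMod 3), (2 : ZMod 3), (2 : ZMod 3), (1 : ZMod 3), (1 : ZMod 3), (2 : ZMod 3), (2 : ZMod 3), (1 : ZMod 3), (1 : ZMod 3), (2 : ZMod 3), (2 : ZMod 3), (1 : ZMod 3), (1 : ZMod 3), (2 : ZMod 3), (2 : ZMod 3), (1 : ZMod 3), (1 : ZMod 3), (2 : ZMod 3), (2 : ZMod 3), (1 : ZMod 3), (1 : ZMod 3), (2 : ZMod 3), (2 : ZMod 3), (1 : ZMod 3), (1 : ZMod 3), (2 : ZMod 3), (2 : ZMod 3), (1 : ZMod 3), (1 : ZMod 3), (2 : ZMod 3), (2 : ZMod 3), (1 : ZMod 3), (1 : ZMod 3), (2 : ZMod 3), (2 : ZMod 3), (1 : ZMod 3), (1 : ZMod 3), (2 : ZMod 3), (2 : ZMod 3), (1 : ZMod 3), (1 : ZMod 3), (2 : ZMod 3), (2 : ZMod 3), (1 : ZMod 3), (1 : ZMod 3), (2 : ZMod 3), (2 : ZMod 3), (1 : ZMod 3), (1 : ZMod 3), (2 : ZMod 3), (2 : ZMod 3), (1 : ZMod 3), (1 : ZMod 3), (2 : ZMod 3), (2 : ZMod 3), (1 : ZMod 3)].getD (b.left.val * 2 + b.right.toAdd.val) 0) *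 v.2)

theorem hAct : IsAct act := ⟨by decide +kernel, by decide +kernel, by decide +kernel⟩

abbrev G := Ext hAct

theorem solvable : Group.IsSolvable G :=
  haveI : Group.IsSolvable T := Ext.isSolvable
  Ext.isSolvable

theorem tbl : divs84.map (cnt G) = [1, 44, 9, 104, 144, 7, 288, 56, 63, 224, 252, 504] :=
  tbl_of_filter G (by decide +kernel)

end P26

end Cfsg.Agent.OrderType
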