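import Cfsg.Agent.Lib.OrderType.Ext

/-!
Small solvable groups with their solution counts, part 2 (helper78, for S4376; machine generated).
-/

set_option autoImplicit false

namespace Cfsg.Agent.OrderType

namespace P03

-- (1 copies of ZMod 3) by (C1 by C2, twist 1)

abbrev top (b : Multiplicative (ZMod 2)) (v : ZMod 1) : ZMod 1 :=
  [(0 : ZMod 1), (0 : ZMod 1)].getD b.toAdd.val 0 * v

theorem hTop : IsAct top := ⟨by decide +kernel, by decide +kernel, by decide +kernel⟩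

abbrev T := Ext hTop

abbrev A := ZMod 3

abbrev act (b : T) (v : A) : A :=
  [(1 : ZMod 3), (2 : ZMod 3)].getD (b.left.val * 2 + b.right.toAdd.val) 0 * v

theorem hAct : IsAct act := ⟨by decide +kernel, by decide +kernel, by decide +kernel⟩

abbrev G := Ext hAct

theorem solvable : Group.IsSolvable G :=
  haveI : Group.IsSolvable T := Ext.isSolvable
  Ext.isSolvable

theorem tbl : divs84.map (cnt G) = [1, 4, 3, 4, 6, 1, 6, 4, 3, 4, 6, 6] :=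
  tbl_of_filter G (by decide +kernel)

end P03

namespace P06

-- (1 copies of ZMod 3) by (C1 by C4, twist 1)

abbrev top (b : Multiplicative (ZMod 4)) (v : ZMod 1) : ZMod 1 :=
  [(0 : ZMod 1), (0 : ZMod 1), (0 : ZMod 1), (0 : ZMod 1)].getD b.toAdd.val 0 * v

theorem hTop : IsAct top := ⟨by decide +kernel, by decide +kernel, by decide +kernel⟩

abbrev T := Ext hTop

abbrev A := ZMod 3

abbrev act (b : T) (v : A) : A :=
  [(1 : ZMod 3), (2 : ZMod 3), (1 : ZMod 3), (2 : ZMod 3)].getD (b.left.val * 4 + b.right.toAdd.val) 0 * v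

theorem hAct : IsAct act := ⟨by decide +kernel, by decide +kernel, by decide +kernel⟩

abbrev G := Ext hAct

theorem solvable : Group.IsSolvable G :=
  haveI : Group.IsSolvable T := Ext.isSolvable
  Ext.isSolvable

theorem tbl : divs84.map (cnt G) = [1, 2, 3, 8, 6, 1, 12, 2, 3, 8, 6, 12] :=
  tbl_of_filter G (by decide +kernel)

end P06

namespace P09

-- (1 copies of ZMod 7) by (C1 by C3, twist 1)

abbrev top (b : Multiplicative (ZMod 3)) (v : ZMod 1) : ZMod 1 :=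
  [(0 : ZMod 1), (0 : ZMod 1), (0 : ZMod 1)].getD b.toAdd.val 0 * v

theorem hTop : IsAct top := ⟨by decide +kernel, by decide +kernel, by decide +kernel⟩

abbrev T := Ext hTop

abbrev A := ZMod 7

abbrev act (b : T) (v : A) : A :=
  [(1 : ZMod 7), (2 : ZMod 7), (4 : ZMod 7)].getD (b.left.val * 3 + b.right.toAdd.val) 0 * v

theorem hAct : IsAct act := ⟨by decide +kernel, by decide +kernel, by decide +kernel⟩

abbrev G := Ext hAct

theorem solvable : Group.IsSolvable G :=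
  haveI : Group.IsSolvable T := Ext.isSolvable
  Ext.isSolvable

theorem tbl : divs84.map (cnt G) = [1, 1, 15, 1, 15, 7, 15, 7, 21, 7, 21, 21] :=
  tbl_of_filter G (by decide +kernel)

end P09

namespace P13

-- (1 copies of ZMod 3) by (C7 by C2, twist 6)

abbrev top (b : Multiplicative (ZMod 2)) (v : ZMod 7) : ZMod 7 :=
  [(1 : ZMod 7), (6 : ZMod 7)].getD b.toAdd.val 0 * v

theorem hTop : IsAct top := ⟨by decide +kernel, by decide +kernel, by decide +kernel⟩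

abbrev T := Ext hTop

abbrev A := ZMod 3

abbrev act (b : T) (v : A) : A :=
  [(1 : ZMod 3), (2 : ZMod 3), (1 : ZMod 3), (2 : ZMod 3), (1 : ZMod 3), (2 : ZMod 3), (1 : ZMod 3), (2 : ZMod 3), (1 : ZMod 3), (2 : ZMod 3), (1 : ZMod 3), (2 : ZMod 3), (1 : ZMod 3), (2 : ZMod 3)].getD (b.left.val * 2 + b.right.toAdd.val) 0 * v

theorem hAct : IsAct act := ⟨by decide +kernel, by decide +kernel, by decide +kernel⟩

abbrev G := Ext hAct

theorem solvable : Group.IsSolvable G :=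
  haveI : Group.IsSolvable T := Ext.isSolvable
  Ext.isSolvable

theorem tbl : divs84.map (cnt G) = [1, 22, 3, 22, 24, 7, 24, 28, 21, 28, 42, 42] :=
  tbl_of_filter G (by decide +kernel)

end P13

namespace P14

-- (1 copies of ZMod 7) by (C1 by C6, twist 1)

abbrev top (b : Multiplicative (ZMod 6)) (v : ZMod 1) : ZMod 1 :=
  [(0 : ZMod 1), (0 : ZMod 1), (0 : ZMod 1), (0 : ZMod 1), (0 : ZMod 1), (0 : ZMod 1)].getD b.toAdd.val 0 * v

theorem hTop : IsAct top := ⟨by decide +kernel, by decide +kernel, by decide +kernel⟩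

abbrev T := Ext hTop

abbrev A := ZMod 7

abbrev act (b : T) (v : A) : A :=
  [(1 : ZMod 7), (3 : ZMod 7), (2 : ZMod 7), (6 : ZMod 7), (4 : ZMod 7), (5 : ZMod 7)].getD (b.left.val * 6 + b.right.toAdd.val) 0 * v

theorem hAct : IsAct act := ⟨by decide +kernel, by decide +kernel, by decide +kernel⟩

abbrev G := Ext hAct

theorem solvable : Group.IsSolvable G :=
  haveI : Group.IsSolvable T := Ext.isSolvable
  Ext.isSolvable

theorem tbl : divs84.map (cnt G) = [1, 8, 15, 8, 36, 7, 36, 14, 21, 14, 42, 42] :=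
  tbl_of_filter G (by decide +kernel)

end P14

namespace P16

-- (1 copies of ZMod 3) by (C7 by C4, twist 6)

abbrev top (b : Multiplicative (ZMod 4)) (v : ZMod 7) : ZMod 7 :=
  [(1 : ZMod 7), (6 : ZMod 7), (1 : ZMod 7), (6 : ZMod 7)].getD b.toAdd.val 0 * v

theorem hTop : IsAct top := ⟨by decide +kernel, by decide +kernel, by decide +kernel⟩

abbrev T := Ext hTop

abbrev A := ZMod 3

abbrev act (b : T) (v : A) : A :=
  [(1 : ZMod 3), (2 : ZMod 3), (1 : ZMod 3), (2 : ZMod 3), (1 : ZMod 3), (2 : ZMod 3), (1 : ZMod 3), (2 : ZMod 3), (1 : ZMod 3), (2 : ZMod 3), (1 : ZMod 3), (2 : ZMod 3), (1 : ZMod 3), (2 : ZMod 3), (1 : ZMod 3), (2 : ZMod 3), (1 : ZMod 3), (2 : ZMod 3), (1 : ZMod 3), (2 : ZMod 3), (1 : ZMod 3), (2 : ZMod 3), (1 : ZMod 3), (2 : ZMod 3), (1 : ZMod 3), (2 : ZMod 3), (1 : ZMod 3), (2 : ZMod 3)].getD (b.left.val * 4 + b.right.toAdd.val) 0 * v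

theorem hAct : IsAct act := ⟨by decide +kernel, by decide +kernel, by decide +kernel⟩

abbrev G := Ext hAct

theorem solvable : Group.IsSolvable G :=
  haveI : Group.IsSolvable T := Ext.isSolvable
  Ext.isSolvable

theorem tbl : divs84.map (cnt G) = [1, 2, 3, 44, 6, 7, 48, 14, 21, 56, 42, 84] :=
  tbl_of_filter G (by decide +kernel)

end P16

namespace P20

-- (3 copies of ZMod 2) by (C7 by C3, twist 2)

abbrev top (b : Multiplicative (ZMod 3)) (v : ZMod 7) : ZMod 7 :=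
  [(1 : ZMod 7), (2 : ZMod 7), (4 : ZMod 7)].getD b.toAdd.val 0 * v

theorem hTop : IsAct top := ⟨by decide +kernel, by decide +kernel, by decide +kernel⟩

abbrev T := Ext hTop

abbrev A := ZMod 2 × ZMod 2 × ZMod 2

abbrev act (b : T) (v : A) : A :=
  (([(1 : ZMod 2), (0 : ZMod 2), (0 : ZMod 2), (0 : ZMod 2), (1 : ZMod 2), (0 : ZMod 2), (1 : ZMod 2), (0 : ZMod 2), (1 : ZMod 2), (0 : ZMod 2), (0 : ZMod 2), (1 : ZMod 2), (0 : ZMod 2), (1 : ZMod 2), (1 : ZMod 2), (1 : ZMod 2), (1 : ZMod 2), (0 : ZMod 2), (1 : ZMod 2), (1 : ZMod 2), (1 : ZMod 2)].getD (b.left.val * 3 + b.right.toAdd.val) 0) * v.1 + ([(0 : ZMod 2), (1 : ZMod 2), (0 : ZMod 2), (0 : ZMod 2), (0 : ZMod 2), (1 : ZMod 2), (1 : ZMod 2), (1 : ZMod 2), (0 : ZMod 2), (1 : ZMod 2), (0 : ZMod 2), (0 : ZMod 2), (1 : ZMod 2), (0 : ZMod 2), (1 : ZMod 2), (0 : ZMod 2), (1 : ZMod 2), (1 : ZMod 2), (1 : ZMod 2), (1 : ZMod 2), (1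 : ZMod 2)].getD (b.left.val * 3 + b.right.toAdd.val) 0) * v.2.1 + ([(0 : ZMod 2), (0 : ZMod 2), (1 : ZMod 2), (1 : ZMod 2), (0 : ZMod 2), (0 : ZMod 2), (0 : ZMod 2), (1 : ZMod 2), (1 : ZMod 2), (0 : ZMod 2), (1 : ZMod 2), (0 : ZMod 2), (1 : ZMod 2), (1 : ZMod 2), (0 : ZMod 2), (1 : ZMod 2), (0 : ZMod 2), (1 : ZMod 2), (1 : ZMod 2), (1 : ZMod 2), (1 : ZMod 2)].getD (b.left.val * 3 + b.right.toAdd.val) 0) * v.2.2,
    ([(0 : ZMod 2), (0 : ZMod 2), (1 : ZMod 2), (0 : ZMod 2), (1 : ZMod 2), (1 : ZMod 2), (1 : ZMod 2), (1 : ZMod 2), (0 : ZMod 2), (1 : ZMod 2), (1 : ZMod 2), (1 : ZMod 2), (1 : ZMod 2), (0 : ZMod 2), (0 : ZMod 2), (0 : ZMod 2), (1 : ZMod 2), (0 : ZMod 2), (1 : ZMod 2), (0 : ZMod 2), (1 : ZMod 2)].getD (b.left.val * 3 + b.right.toAdd.val) 0) * v.1 + ([(1 : ZMod 2), (0 : ZMod 2), (0 : ZMod 2), (1 : ZMod 2), (0 : ZMod 2), (1 : ZMod 2), (0 : ZMod 2), (1 : ZMod 2), (1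 : ZMod 2), (1 : ZMod 2), (1 : ZMod 2), (1 : ZMod 2), (0 : ZMod 2), (1 : ZMod 2), (0 : ZMod 2), (0 : ZMod 2), (0 : ZMod 2), (1 : ZMod 2), (1 : ZMod 2), (1 : ZMod 2), (0 : ZMod 2)].getD (b.left.val * 3 + b.right.toAdd.val) 0) * v.2.1 + ([(0 : ZMod 2), (1 : ZMod 2), (0 : ZMod 2), (1 : ZMod 2), (1 : ZMod 2), (0 : ZMod 2), (1 : ZMod 2), (0 : ZMod 2), (1 : ZMod 2), (1 : ZMod 2), (1 : ZMod 2), (1 : ZMod 2), (0 : ZMod 2), (0 : ZMod 2), (1 : ZMod 2), (1 : ZMod 2), (0 : ZMod 2), (0 : ZMod 2), (0 : ZMod 2), (1 : ZMod 2), (1 : ZMod 2)].getD (b.left.val * 3 + b.right.toAdd.val) 0) * v.2.2,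
    ([(0 : ZMod 2), (1 : ZMod 2), (0 : ZMod 2), (1 : ZMod 2), (0 : ZMod 2), (1 : ZMod 2), (0 : ZMod 2), (0 : ZMod 2), (1 : ZMod 2), (0 : ZMod 2), (1 : ZMod 2), (1 : ZMod 2), (1 : ZMod 2), (1 : ZMod 2), (0 : ZMod 2), (1 : ZMod 2), (1 : ZMod 2), (1 : ZMod 2), (1 : ZMod 2), (0 : ZMod 2), (0 : ZMod 2)].getD (b.left.val * 3 + b.right.toAdd.val) 0) * v.1 + ([(0 : ZMod 2), (0 : ZMod 2), (1 : ZMod 2), (1 : ZMod 2), (1 : ZMod 2), (0 : ZMod 2), (1 : ZMod 2), (0 : ZMod 2), (0 : ZMod 2), (1 : ZMod 2), (0 : ZMod 2), (1 : ZMod 2), (0 : ZMod 2), (1 : ZMod 2), (1 : ZMod 2), (1 : ZMod 2), (1 : ZMod 2), (1 : ZMod 2), (0 : ZMod 2), (1 : ZMod 2), (0 : ZMod 2)].getD (b.left.val * 3 + b.right.toAdd.val) 0) * v.2.1 + ([(1 : ZMod 2), (0 : ZMod 2), (0 : ZMod 2), (0 : ZMod 2), (1 : ZMod 2), (1 : ZMod 2), (0 : ZMod 2), (1 : ZMod 2), (0 : ZMod 2), (1 : ZMod 2), (1 : ZMod 2), (0 : ZMod 2), (1 : ZMod 2),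 (0 : ZMod 2), (1 : ZMod 2), (1 : ZMod 2), (1 : ZMod 2), (1 : ZMod 2), (0 : ZMod 2), (0 : ZMod 2), (1 : ZMod 2)].getD (b.left.val * 3 + b.right.toAdd.val) 0) * v.2.2)

theorem hAct : IsAct act := ⟨by decide +kernel, by decide +kernel, by decide +kernel⟩

abbrev G := Ext hAct

theorem solvable : Group.IsSolvable G :=
  haveI : Group.IsSolvable T := Ext.isSolvable
  Ext.isSolvable

theorem tbl : divs84.map (cnt G) = [1, 8, 57, 8, 120, 49, 120, 56, 105, 56, 168, 168] :=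
  tbl_of_filter G (by decide +kernel)

end P20

namespace P22

-- (1 copies of ZMod 3) by (C21 by C4, twist 20)

abbrev top (b : Multiplicative (ZMod 4)) (v : ZMod 21) : ZMod 21 :=
  [(1 : ZMod 21), (20 : ZMod 21), (1 : ZMod 21), (20 : ZMod 21)].getD b.toAdd.val 0 * v

theorem hTop : IsAct top := ⟨by decide +kernel, by decide +kernel, by decide +kernel⟩

abbrev T := Ext hTop

abbrev A := ZMod 3

abbrev act (b : T) (v : A) : A :=
  [(1 : ZMod 3), (2 : ZMod 3), (1 : ZMod 3), (2 : ZMod 3), (1 : ZMod 3), (2 : ZMod 3), (1 : ZMod 3), (2 : ZMod 3), (1 : ZMod 3), (2 : ZMod 3), (1 : ZMod 3), (2 : ZMod 3), (1 : ZMod 3), (2 : ZMod 3), (1 : ZMod 3), (2 : ZMod 3), (1 : ZMod 3), (2 : ZMod 3), (1 : ZMod 3), (2 : ZMod 3), (1 : ZMod 3), (2 : ZMod 3), (1 : ZMod 3), (2 : ZMod 3), (1 : ZMod 3), (2 : ZMod 3), (1 : ZMod 3), (2 : ZMod 3), (1 : ZMod 3), (2 : ZMod 3), (1 : ZMod 3), (2 : ZMod 3), (1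 : ZMod 3), (2 : ZMod 3), (1 : ZMod 3), (2 : ZMod 3), (1 : ZMod 3), (2 : ZMod 3), (1 : ZMod 3), (2 : ZMod 3), (1 : ZMod 3), (2 : ZMod 3), (1 : ZMod 3), (2 : ZMod 3), (1 : ZMod 3), (2 : ZMod 3), (1 : ZMod 3), (2 : ZMod 3), (1 : ZMod 3), (2 : ZMod 3), (1 : ZMod 3), (2 : ZMod 3), (1 : ZMod 3), (2 : ZMod 3), (1 : ZMod 3), (2 : ZMod 3), (1 : ZMod 3), (2 : ZMod 3), (1 : ZMod 3), (2 : ZMod 3), (1 : ZMod 3), (2 : ZMod 3), (1 : ZMod 3), (2 : ZMod 3), (1 : ZMod 3), (2 : ZMod 3), (1 : ZMod 3), (2 : ZMod 3), (1 : ZMod 3), (2 : ZMod 3), (1 : ZMod 3), (2 : ZMod 3), (1 : ZMod 3), (2 : ZMod 3), (1 : ZMod 3), (2 : ZMod 3), (1 : ZMod 3), (2 : ZMod 3), (1 : ZMod 3), (2 : ZMod 3), (1 : ZMod 3), (2 : ZMod 3), (1 : ZMod 3), (2 : ZMod 3)].getD (b.left.val * 4 + b.right.toAdd.val) 0 * v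

theorem hAct : IsAct act := ⟨by decide +kernel, by decide +kernel, by decide +kernel⟩

abbrev G := Ext hAct

theorem solvable : Group.IsSolvable G :=
  haveI : Group.IsSolvable T := Ext.isSolvable
  Ext.isSolvable

theorem tbl : divs84.map (cnt G) = [1, 2, 9, 128, 18, 7, 144, 14, 63, 140, 126, 252] :=
  tbl_of_filter G (by decide +kernel)

end P22

namespace P23

-- (2 copies of ZMod 3) by (C14 by C2, twist 13)

abbrev top (b : Multiplicative (ZMod 2)) (v : ZMod 14) : ZMod 14 :=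
  [(1 : ZMod 14), (13 : ZMod 14)].getD b.toAdd.val 0 * v

theorem hTop : IsAct top := ⟨by decide +kernel, by decide +kernel, by decide +kernel⟩

abbrev T := Ext hTop

abbrev A := ZMod 3 × ZMod 3

abbrev act (b : T) (v : A) : A :=
  (([(1 : ZMod 3), (1 : ZMod 3), (2 : ZMod 3), (2 : ZMod 3), (1 : ZMod 3), (1 : ZMod 3), (2 : ZMod 3), (2 : ZMod 3), (1 : ZMod 3), (1 : ZMod 3), (2 : ZMod 3), (2 : ZMod 3), (1 : ZMod 3), (1 : ZMod 3), (2 : ZMod 3), (2 : ZMod 3), (1 : ZMod 3), (1 : ZMod 3), (2 : ZMod 3), (2 : ZMod 3), (1 : ZMod 3), (1 : ZMod 3), (2 : ZMod 3), (2 : ZMod 3), (1 : ZMod 3), (1 : ZMod 3), (2 : ZMod 3), (2 : ZMod 3)].getD (b.left.val * 2 + b.right.toAdd.val) 0) * v.1 + ([(0 : ZMod 3), (1 : ZMod 3), (0 : ZMod 3), (2 : ZMod 3), (0 : ZMod 3), (1 : ZMod 3), (0 : ZMod 3), (2 : ZMod 3), (0 : ZMod 3), (1 : ZMod 3), (0 : ZMod 3), (2 : ZMod 3), (0 : ZMod 3), (1 : ZMod 3), (0 : ZMod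 3), (2 : ZMod 3), (0 : ZMod 3), (1 : ZMod 3), (0 : ZMod 3), (2 : ZMod 3), (0 : ZMod 3), (1 : ZMod 3), (0 : ZMod 3), (2 : ZMod 3), (0 : ZMod 3), (1 : ZMod 3), (0 : ZMod 3), (2 : ZMod 3)].getD (b.left.val * 2 + b.right.toAdd.val) 0) * v.2,
    ([(1 : ZMod 3), (2 : ZMod 3), (2 : ZMod 3), (1 : ZMod 3), (1 : ZMod 3), (2 : ZMod 3), (2 : ZMod 3), (1 : ZMod 3), (1 : ZMod 3), (2 : ZMod 3), (2 : ZMod 3), (1 : ZMod 3), (1 : ZMod 3), (2 : ZMod 3), (2 : ZMod 3), (1 : ZMod 3), (1 : ZMod 3), (2 : ZMod 3), (2 : ZMod 3), (1 : ZMod 3), (1 : ZMod 3), (2 : ZMod 3), (2 : ZMod 3), (1 : ZMod 3), (1 : ZMod 3), (2 : ZMod 3), (2 : ZMod 3), (1 : ZMod 3)].getD (b.left.val * 2 + b.right.toAdd.val) 0) * v.2)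

theorem hAct : IsAct act := ⟨by decide +kernel, by decide +kernel, by decide +kernel⟩

abbrev G := Ext hAct

theorem solvable : Group.IsSolvable G :=
  haveI : Group.IsSolvable T := Ext.isSolvable
  Ext.isSolvable

theorem tbl : divs84.map (cnt G) = [1, 52, 9, 52, 144, 7, 144, 112, 63, 112, 252, 252] :=
  tbl_of_filter G (by decide +kernel)

end P23

end Cfsg.Agent.OrderType
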