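import Cfsg.Agent.Lib.OrderType.Ext

/-!
Small solvable groups with their solution counts, part 3 (helper78, for S4376; machine generated).
-/

set_option autoImplicit false

namespace Cfsg.Agent.OrderType

namespace P01

-- (1 copies of ZMod 3) by (C1 by C1, twist 1)

abbrev top (b : Multiplicative (ZMod 1)) (v : ZMod 1) : ZMod 1 :=
  [(0 : ZMod 1)].getD b.toAdd.val 0 * v

theorem hTop : IsAct top := ⟨by decide +kernel, by decide +kernel, by decide +kernel⟩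

abbrev T := Ext hTop

abbrev A := ZMod 3

abbrev act (b : T) (v : A) : A :=
  [(1 : ZMod 3)].getD (b.left.val * 1 + b.right.toAdd.val) 0 * v

theorem hAct : IsAct act := ⟨by decide +kernel, by decide +kernel, by decide +kernel⟩

abbrev G := Ext hAct

theorem solvable : Group.IsSolvable G :=
  haveI : Group.IsSolvable T := Ext.isSolvable
  Ext.isSolvable

theorem tbl : divs84.map (cnt G) = [1, 1, 3, 1, 3, 1, 3, 1, 3, 1, 3, 3] :=
  tbl_of_filter G (by decide +kernel)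

end P01

namespace P02

-- (1 copies of ZMod 4) by (C1 by C1, twist 1)

abbrev top (b : Multiplicative (ZMod 1)) (v : ZMod 1) : ZMod 1 :=
  [(0 : ZMod 1)].getD b.toAdd.val 0 * v

theorem hTop : IsAct top := ⟨by decide +kernel, by decide +kernel, by decide +kernel⟩

abbrev T := Ext hTop

abbrev A := ZMod 4

abbrev act (b : T) (v : A) : A :=
  [(1 : ZMod 4)].getD (b.left.val * 1 + b.right.toAdd.val) 0 * v

theorem hAct : IsAct act := ⟨by decide +kernel, by decide +kernel, by decide +kernel⟩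

abbrev G := Ext hAct

theorem solvable : Group.IsSolvable G :=
  haveI : Group.IsSolvable T := Ext.isSolvable
  Ext.isSolvable

theorem tbl : divs84.map (cnt G) = [1, 2, 1, 4, 2, 1, 4, 2, 1, 4, 2, 4] :=
  tbl_of_filter G (by decide +kernel)

end P02

namespace P05

-- (2 copies of ZMod 2) by (C1 by C2, twist 1)

abbrev top (b : Multiplicative (ZMod 2)) (v : ZMod 1) : ZMod 1 :=
  [(0 : ZMod 1), (0 : ZMod 1)].getD b.toAdd.val 0 * v

theorem hTop : IsAct top := ⟨by decide +kernel, by decide +kernel, by decide +kernel⟩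

abbrev T := Ext hTop

abbrev A := ZMod 2 × ZMod 2

abbrev act (b : T) (v : A) : A :=
  (([(1 : ZMod 2), (0 : ZMod 2)].getD (b.left.val * 2 + b.right.toAdd.val) 0) * v.1 + ([(0 : ZMod 2), (1 : ZMod 2)].getD (b.left.val * 2 + b.right.toAdd.val) 0) * v.2,
    ([(0 : ZMod 2), (1 : ZMod 2)].getD (b.left.val * 2 + b.right.toAdd.val) 0) * v.1 + ([(1 : ZMod 2), (0 : ZMod 2)].getD (b.left.val * 2 + b.right.toAdd.val) 0) * v.2)

theorem hAct : IsAct act := ⟨by decide +kernel, by decide +kernel, by decide +kernel⟩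

abbrev G := Ext hAct

theorem solvable : Group.IsSolvable G :=
  haveI : Group.IsSolvable T := Ext.isSolvable
  Ext.isSolvable

theorem tbl : divs84.map (cnt G) = [1, 6, 1, 8, 6, 1, 8, 6, 1, 8, 6, 8] :=
  tbl_of_filter G (by decide +kernel)

end P05

namespace P08

-- (1 copies of ZMod 3) by (C3 by C2, twist 2)

abbrev top (b : Multiplicative (ZMod 2)) (v : ZMod 3) : ZMod 3 :=
  [(1 : ZMod 3), (2 : ZMod 3)].getD b.toAdd.val 0 * v

theorem hTop : IsAct top := ⟨by decide +kernel, by decide +kernel, by decide +kernel⟩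

abbrev T := Ext hTop

abbrev A := ZMod 3

abbrev act (b : T) (v : A) : A :=
  [(1 : ZMod 3), (2 : ZMod 3), (1 : ZMod 3), (2 : ZMod 3), (1 : ZMod 3), (2 : ZMod 3)].getD (b.left.val * 2 + b.right.toAdd.val) 0 * v

theorem hAct : IsAct act := ⟨by decide +kernel, by decide +kernel, by decide +kernel⟩

abbrev G := Ext hAct

theorem solvable : Group.IsSolvable G :=
  haveI : Group.IsSolvable T := Ext.isSolvable
  Ext.isSolvable

theorem tbl : divs84.map (cnt G) = [1, 10, 9, 10, 18, 1, 18, 10, 9, 10, 18, 18] :=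
  tbl_of_filter G (by decide +kernel)

end P08

namespace P12

-- (1 copies of ZMod 3) by (C3 by C4, twist 2)

abbrev top (b : Multiplicative (ZMod 4)) (v : ZMod 3) : ZMod 3 :=
  [(1 : ZMod 3), (2 : ZMod 3), (1 : ZMod 3), (2 : ZMod 3)].getD b.toAdd.val 0 * v

theorem hTop : IsAct top := ⟨by decide +kernel, by decide +kernel, by decide +kernel⟩

abbrev T := Ext hTop

abbrev A := ZMod 3

abbrev act (b : T) (v : A) : A :=
  [(1 : ZMod 3), (2 : ZMod 3), (1 : ZMod 3), (2 : ZMod 3), (1 : ZMod 3), (2 : ZMod 3), (1 : ZMod 3), (2 : ZMod 3), (1 : ZMod 3), (2 : ZMod 3), (1 : ZMod 3), (2 : ZMod 3)].getD (b.left.val * 4 + b.right.toAdd.val) 0 * v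

theorem hAct : IsAct act := ⟨by decide +kernel, by decide +kernel, by decide +kernel⟩

abbrev G := Ext hAct

theorem solvable : Group.IsSolvable G :=
  haveI : Group.IsSolvable T := Ext.isSolvable
  Ext.isSolvable

theorem tbl : divs84.map (cnt G) = [1, 2, 9, 20, 18, 1, 36, 2, 9, 20, 18, 36] :=
  tbl_of_filter G (by decide +kernel)

end P12

namespace P17

-- (1 copies of ZMod 7) by (C1 by C12, twist 1)

abbrev top (b : Multiplicative (ZMod 12)) (v : ZMod 1) : ZMod 1 :=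
  [(0 : ZMod 1), (0 : ZMod 1), (0 : ZMod 1), (0 : ZMod 1), (0 : ZMod 1), (0 : ZMod 1), (0 : ZMod 1), (0 : ZMod 1), (0 : ZMod 1), (0 : ZMod 1), (0 : ZMod 1), (0 : ZMod 1)].getD b.toAdd.val 0 * v

theorem hTop : IsAct top := ⟨by decide +kernel, by decide +kernel, by decide +kernel⟩

abbrev T := Ext hTop

abbrev A := ZMod 7

abbrev act (b : T) (v : A) : A :=
  [(1 : ZMod 7), (3 : ZMod 7), (2 : ZMod 7), (6 : ZMod 7), (4 : ZMod 7), (5 : ZMod 7), (1 : ZMod 7), (3 : ZMod 7), (2 : ZMod 7), (6 : ZMod 7), (4 : ZMod 7), (5 : ZMod 7)].getD (b.left.val * 12 + b.right.toAdd.val) 0 * v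

theorem hAct : IsAct act := ⟨by decide +kernel, by decide +kernel, by decide +kernel⟩

abbrev G := Ext hAct

theorem solvable : Group.IsSolvable G :=
  haveI : Group.IsSolvable T := Ext.isSolvable
  Ext.isSolvable

theorem tbl : divs84.map (cnt G) = [1, 2, 15, 16, 30, 7, 72, 14, 21, 28, 42, 84] :=
  tbl_of_filter G (by decide +kernel)

end P17

namespace P21

-- (1 copies of ZMod 21) by (C4 by C2, twist 3)

abbrev top (b : Multiplicative (ZMod 2)) (v : ZMod 4) : ZMod 4 :=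
  [(1 : ZMod 4), (3 : ZMod 4)].getD b.toAdd.val 0 * v

theorem hTop : IsAct top := ⟨by decide +kernel, by decide +kernel, by decide +kernel⟩

abbrev T := Ext hTop

abbrev A := ZMod 21

abbrev act (b : T) (v : A) : A :=
  [(1 : ZMod 21), (8 : ZMod 21), (20 : ZMod 21), (13 : ZMod 21), (1 : ZMod 21), (8 : ZMod 21), (20 : ZMod 21), (13 : ZMod 21)].getD (b.left.val * 2 + b.right.toAdd.val) 0 * v

theorem hAct : IsAct act := ⟨by decide +kernel, by decide +kernel, by decide +kernel⟩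

abbrev G := Ext hAct

theorem solvable : Group.IsSolvable G :=
  haveI : Group.IsSolvable T := Ext.isSolvable
  Ext.isSolvable

theorem tbl : divs84.map (cnt G) = [1, 22, 3, 64, 54, 7, 96, 70, 21, 112, 126, 168] :=
  tbl_of_filter G (by decide +kernel)

end P21

namespace P24

-- (1 copies of ZMod 7) by (C7 by C6, twist 3)

abbrev top (b : Multiplicative (ZMod 6)) (v : ZMod 7) : ZMod 7 :=
  [(1 : ZMod 7), (3 : ZMod 7), (2 : ZMod 7), (6 : ZMod 7), (4 : ZMod 7), (5 : ZMod 7)].getD b.toAdd.val 0 * v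

theorem hTop : IsAct top := ⟨by decide +kernel, by decide +kernel, by decide +kernel⟩

abbrev T := Ext hTop

abbrev A := ZMod 7

abbrev act (b : T) (v : A) : A :=
  [(1 : ZMod 7), (6 : ZMod 7), (1 : ZMod 7), (6 : ZMod 7), (1 : ZMod 7), (6 : ZMod 7), (1 : ZMod 7), (6 : ZMod 7), (1 : ZMod 7), (6 : ZMod 7), (1 : ZMod 7), (6 : ZMod 7), (1 : ZMod 7), (6 : ZMod 7), (1 : ZMod 7), (6 : ZMod 7), (1 : ZMod 7), (6 : ZMod 7), (1 : ZMod 7), (6 : ZMod 7), (1 : ZMod 7), (6 : ZMod 7), (1 : ZMod 7), (6 : ZMod 7), (1 : ZMod 7), (6 : ZMod 7), (1 : ZMod 7), (6 : ZMod 7), (1 : ZMod 7), (6 : ZMod 7), (1 : ZMod 7), (6 : ZMod 7), (1 : ZMod 7), (6 : ZMod 7), (1 : ZMod 7), (6 : ZMod 7), (1 : ZMod 7), (6 : ZMod 7), (1 : ZMod 7), (6 : ZMod 7), (1 : ZMod 7), (6 : ZMod 7)].getD (b.left.val * 6 + b.right.toAdd.val) 0 * v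

theorem hAct : IsAct act := ⟨by decide +kernel, by decide +kernel, by decide +kernel⟩

abbrev G := Ext hAct

theorem solvable : Group.IsSolvable G :=
  haveI : Group.IsSolvable T := Ext.isSolvable
  Ext.isSolvable

theorem tbl : divs84.map (cnt G) = [1, 50, 15, 50, 162, 49, 162, 98, 147, 98, 294, 294] :=
  tbl_of_filter G (by decide +kernel)

end P24

namespace P25

-- (4 copies of ZMod 2) by (C14 by C2, twist 13)

abbrev top (b : Multiplicative (ZMod 2)) (v : ZMod 14) : ZMod 14 :=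
  [(1 : ZMod 14), (13 : ZMod 14)].getD b.toAdd.val 0 * v

theorem hTop : IsAct top := ⟨by decide +kernel, by decide +kernel, by decide +kernel⟩

abbrev T := Ext hTop

abbrev A := ZMod 2 × ZMod 2 × ZMod 2 × ZMod 2

abbrev act (b : T) (v : A) : A :=
  (([(1 : ZMod 2), (1 : ZMod 2), (1 : ZMod 2), (1 : ZMod 2), (1 : ZMod 2), (1 : ZMod 2), (1 : ZMod 2), (1 : ZMod 2), (1 : ZMod 2), (1 : ZMod 2), (1 : ZMod 2), (1 : ZMod 2), (1 : ZMod 2), (1 : ZMod 2), (1 : ZMod 2), (1 : ZMod 2), (1 : ZMod 2), (1 : ZMod 2), (1 : ZMod 2), (1 : ZMod 2), (1 : ZMod 2), (1 : ZMod 2), (1 : ZMod 2), (1 : ZMod 2), (1 : ZMod 2), (1 : ZMod 2), (1 : ZMod 2), (1 : ZMod 2)].getD (b.left.val * 2 + b.right.toAdd.val) 0) * v.1,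
    ([(1 : ZMod 2), (1 : ZMod 2), (1 : ZMod 2), (1 : ZMod 2), (1 : ZMod 2), (1 : ZMod 2), (1 : ZMod 2), (1 : ZMod 2), (1 : ZMod 2), (1 : ZMod 2), (1 : ZMod 2), (1 : ZMod 2), (1 : ZMod 2), (1 : ZMod 2), (1 : ZMod 2), (1 : ZMod 2), (1 : ZMod 2), (1 : ZMod 2), (1 : ZMod 2), (1 : ZMod 2), (1 : ZMod 2), (1 : ZMod 2), (1 : ZMod 2), (1 : ZMod 2), (1 : ZMod 2), (1 : ZMod 2), (1 : ZMod 2), (1 : ZMod 2)].getD (b.left.val * 2 + b.right.toAdd.val) 0) * v.2.1,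
    ([(0 : ZMod 2), (0 : ZMod 2), (1 : ZMod 2), (1 : ZMod 2), (0 : ZMod 2), (0 : ZMod 2), (1 : ZMod 2), (1 : ZMod 2), (0 : ZMod 2), (0 : ZMod 2), (1 : ZMod 2), (1 : ZMod 2), (0 : ZMod 2), (0 : ZMod 2), (1 : ZMod 2), (1 : ZMod 2), (0 : ZMod 2), (0 : ZMod 2), (1 : ZMod 2), (1 : ZMod 2), (0 : ZMod 2), (0 : ZMod 2), (1 : ZMod 2), (1 : ZMod 2), (0 : ZMod 2), (0 : ZMod 2), (1 : ZMod 2), (1 : ZMod 2)].getD (b.left.val * 2 + b.right.toAdd.val) 0) * v.1 + ([(0 : ZMod 2), (1 : ZMod 2), (0 : ZMod 2), (1 : ZMod 2), (0 : ZMod 2), (1 : ZMod 2), (0 : ZMod 2), (1 : ZMod 2), (0 : ZMod 2), (1 : ZMod 2), (0 : ZMod 2), (1 : ZMod 2), (0 : ZMod 2), (1 : ZMod 2), (0 : ZMod 2), (1 : ZMod 2), (0 : ZMod 2), (1 : ZMod 2), (0 : ZMod 2), (1 : ZMod 2), (0 : ZMod 2), (1 : ZMod 2), (0 : ZMod 2), (1 : ZMod 2), (0 : ZMod 2), (1 : ZMod 2), (0 : ZMod 2), (1 : ZMod 2)].getD (b.left.val * 2 + b.right.toAdd.val) 0) * v.2.1 + ([(1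 : ZMod 2), (1 : ZMod 2), (1 : ZMod 2), (1 : ZMod 2), (1 : ZMod 2), (1 : ZMod 2), (1 : ZMod 2), (1 : ZMod 2), (1 : ZMod 2), (1 : ZMod 2), (1 : ZMod 2), (1 : ZMod 2), (1 : ZMod 2), (1 : ZMod 2), (1 : ZMod 2), (1 : ZMod 2), (1 : ZMod 2), (1 : ZMod 2), (1 : ZMod 2), (1 : ZMod 2), (1 : ZMod 2), (1 : ZMod 2), (1 : ZMod 2), (1 : ZMod 2), (1 : ZMod 2), (1 : ZMod 2), (1 : ZMod 2), (1 : ZMod 2)].getD (b.left.val * 2 + b.right.toAdd.val) 0) * v.2.2.1,
    ([(0 : ZMod 2), (0 : ZMod 2), (1 : ZMod 2), (1 : ZMod 2), (0 : ZMod 2), (0 : ZMod 2), (1 : ZMod 2), (1 : ZMod 2), (0 : ZMod 2), (0 : ZMod 2), (1 : ZMod 2), (1 : ZMod 2), (0 : ZMod 2), (0 : ZMod 2), (1 : ZMod 2), (1 : ZMod 2), (0 : ZMod 2), (0 : ZMod 2), (1 : ZMod 2), (1 : ZMod 2), (0 : ZMod 2), (0 : ZMod 2), (1 : ZMod 2), (1 : ZMod 2), (0 : ZMod 2), (0 : ZMod 2), (1 : ZMod 2), (1 : ZMod 2)].getD (b.left.val * 2 + b.right.toAdd.val) 0) * v.1 + ([(0 :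 ZMod 2), (1 : ZMod 2), (1 : ZMod 2), (0 : ZMod 2), (0 : ZMod 2), (1 : ZMod 2), (1 : ZMod 2), (0 : ZMod 2), (0 : ZMod 2), (1 : ZMod 2), (1 : ZMod 2), (0 : ZMod 2), (0 : ZMod 2), (1 : ZMod 2), (1 : ZMod 2), (0 : ZMod 2), (0 : ZMod 2), (1 : ZMod 2), (1 : ZMod 2), (0 : ZMod 2), (0 : ZMod 2), (1 : ZMod 2), (1 : ZMod 2), (0 : ZMod 2), (0 : ZMod 2), (1 : ZMod 2), (1 : ZMod 2), (0 : ZMod 2)].getD (b.left.val * 2 + b.right.toAdd.val) 0) * v.2.1 + ([(1 : ZMod 2), (1 : ZMod 2), (1 : ZMod 2), (1 : ZMod 2), (1 : ZMod 2), (1 : ZMod 2), (1 : ZMod 2), (1 : ZMod 2), (1 : ZMod 2), (1 : ZMod 2), (1 : ZMod 2), (1 : ZMod 2), (1 : ZMod 2), (1 : ZMod 2), (1 : ZMod 2), (1 : ZMod 2), (1 : ZMod 2), (1 : ZMod 2), (1 : ZMod 2), (1 : ZMod 2), (1 : ZMod 2), (1 : ZMod 2), (1 : ZMod 2), (1 : ZMod 2), (1 : ZMod 2), (1 : ZMod 2), (1 : ZMod 2), (1 : ZMod 2)].getD (b.left.val * 2 + b.right.toAdd.val) 0) * v.2.2.2)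

theorem hAct : IsAct act := ⟨by decide +kernel, by decide +kernel, by decide +kernel⟩

abbrev G := Ext hAct

theorem solvable : Group.IsSolvable G :=
  haveI : Group.IsSolvable T := Ext.isSolvable
  Ext.isSolvable

theorem tbl : divs84.map (cnt G) = [1, 104, 1, 256, 104, 7, 256, 224, 7, 448, 224, 448] :=
  tbl_of_filter G (by decide +kernel)

end P25

end Cfsg.Agent.OrderType
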